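import Groth.Agent.ResProp.EF.K884.EtaD
import Groth.Agent.ResProp.EF.K567.MatV

/-!
# The matrices of a matrix comodule at the levels `B ⊗ A⟨n⟩`

`matPt C hC hε B n h : (Matrix ι ι (B ⊗ A⟨n⟩))ˣ`, the matrix `h (C i j) ⊗ 1`, with `matPt_one`, `matPt_mul`, `mapU_matPt`.
`etaV_one`, `etaV_comp`, `etaV_pull` for `matV (etaD ..) (matPt ..)`.
-/

set_option autoImplicit false
set_option linter.dupNamespace false

universe u v

open CategoryTheory Opposite TensorProduct

noncomputable section

namespace Groth.Agent.ResProp.EF.K884.MatPt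

open Groth.Agent.ResProp.EF.K980 K784.BC K784.PM K741.RP EF56
open Groth.Agent.ResProp.EF.Arch Groth.Agent.ResProp.EF.Grp
open Groth.Agent.ResProp.EF.K208 WithConv
open Groth.Agent.ResProp.EF.K884.LevPM Groth.Agent.ResProp.EF.K884.EtaD

variable {k : Type u} [CommRing k] {A : NFᵒᵖ ⥤ CommRingCat.{u}} [GRF k A] {H : Gp k}

variable {ι : Type v} [Fintype ι] [DecidableEq ι] {C : Matrix ι ι H.O}

/-- a matrix comodule -/
structure IsMC (C : Matrix ι ι H.O) : Prop where
  comul : ∀ i j, Coalgebra.comul (R := k) (C i j) = ∑ l, C i l ⊗ₜ[k] C l j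
  counit : ∀ i j, Coalgebra.counit (R := k) (C i j) = if i = j then 1 else 0

variable {B : Type u} [CommRing B] [Algebra k B] {B' : Type u} [CommRing B'] [Algebra k B']

theorem IsMC.mul (hC : IsMC C) (h h' : (pts H).pt B) :
    C.map (h * h' : (pts H).pt B).ofConv = C.map h.ofConv * C.map h'.ofConv := by
  ext i j
  have h1 : (h * h' : (pts H).pt B).ofConv (C i j) = _ := AlgHom.convMul_apply h h' (C i j)
  rw [Matrix.map_apply, Matrix.mul_apply]
  refine h1.trans ?_
  rw [hC.comul, map_sum]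
  refine Finset.sum_congr rfl fun l _ => ?_
  rw [Algebra.TensorProduct.lift_tmul]
  rfl

theorem IsMC.one (hC : IsMC C) : C.map (1 : (pts H).pt B).ofConv = 1 := by
  ext i j
  have h1 : (1 : (pts H).pt B).ofConv (C i j) = algebraMap k B (Coalgebra.counit (C i j)) := rfl
  rw [Matrix.map_apply, Matrix.one_apply]
  refine h1.trans ?_
  rw [hC.counit]
  split_ifs
  · exact map_one _
  · exact map_zero _

variable (A B) in
/-- the matrix of a point of `H` at a level -/
def matPt (hC : IsMC C) (n : ℕ) (h : (pts H).pt B) : (Matrix ι ι (B ⊗[k] A.obj (op ⟨n⟩)))ˣ where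
  val := (C.map h.ofConv).map (inb k A B n)
  inv := (C.map (h⁻¹ : (pts H).pt B).ofConv).map (inb k A B n)
  val_inv := by
    rw [← RingHom.mapMatrix_apply, ← RingHom.mapMatrix_apply, ← map_mul, ← hC.mul]
    rw [show (h * h⁻¹ : (pts H).pt B) = 1 from mul_inv_cancel h, hC.one, map_one]
  inv_val := by
    rw [← RingHom.mapMatrix_apply, ← RingHom.mapMatrix_apply, ← map_mul, ← hC.mul]
    rw [show (h⁻¹ * h : (pts H).pt B) = 1 from inv_mul_cancel h, hC.one, map_one]

theorem matPt_val (hC : IsMC C) (n : ℕ) (h : (pts H).pt B) (i j : ι) :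
    (matPt A B hC n h).1 i j = h.ofConv (C i j) ⊗ₜ 1 := rfl

theorem matPt_one (hC : IsMC C) (n : ℕ) : matPt A B hC n 1 = 1 := by
  apply Units.ext
  change (C.map (1 : (pts H).pt B).ofConv).map (inb k A B n) = 1
  rw [hC.one, ← RingHom.mapMatrix_apply, map_one]

theorem matPt_mul (hC : IsMC C) (n : ℕ) (h h' : (pts H).pt B) :
    matPt A B hC n (h' * h) = matPt A B hC n h' * matPt A B hC n h := by
  apply Units.ext
  change (C.map (h' * h : (pts H).pt B).ofConv).map (inb k A B n) =
    (C.map h'.ofConv).map (inb k A B n) * (C.map h.ofConv).map (inb k A B n)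
  rw [hC.mul, ← RingHom.mapMatrix_apply, ← RingHom.mapMatrix_apply, ← RingHom.mapMatrix_apply, map_mul]

theorem map_matPt (hC : IsMC C) (f : B →ₐ[k] B') {m n : ℕ} (a : Fin (m + 1) → Fin (n + 1)) (h : (pts H).pt B) :
    (matPt A B hC m h).1.map (lv k A f a) = (matPt A B' hC n ((pts H).map f h)).1 := by
  ext i j
  exact lv_inb f a (h.ofConv (C i j))

theorem mapU_matPt (hC : IsMC C) (f : B →ₐ[k] B') {m n : ℕ} (a : Fin (m + 1) → Fin (n + 1)) (h : (pts H).pt B) :
    K567.mapU (lv k A f a) (matPt A B hC m h) = matPt A B' hC n ((pts H).map f h) := by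
  apply Units.ext
  exact map_matPt hC f a h

end Groth.Agent.ResProp.EF.K884.MatPt
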