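import Groth.Agent.ResProp.EF.K884.LevW
import Groth.Agent.ResProp.EF.K280.Prod

/-!
# `ProdIn` from the data of the producer
-/

set_option autoImplicit false
set_option linter.dupNamespace false

universe u v

open CategoryTheory Opposite TensorProduct

noncomputable section

namespace Groth.Agent.ResProp.EF.K884.ProdW

open Groth.Agent.ResProp.EF.K980 K784.BC K784.PM K741.RP EF56 K477
open Groth.Agent.ResProp.EF.Arch Groth.Agent.ResProp.EF.Grp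
open Groth.Agent.ResProp.EF.K208 WithConv
open Groth.Agent.ResProp.EF.K863 Groth.Agent.ResProp.EF.K964 Groth.Agent.ResProp.EF.K567
open Groth.Agent.ResProp.EF.K86 (wit hLv omPM omk omC)
open Groth.Agent.ResProp.EF.K280 (SymIn ProdIn)
open Groth.Agent.ResProp.EF.K884.LevPM Groth.Agent.ResProp.EF.K884.EtaD Groth.Agent.ResProp.EF.K884.MatPt
  Groth.Agent.ResProp.EF.K884.LevGen Groth.Agent.ResProp.EF.K884.LevTrip Groth.Agent.ResProp.EF.K884.LevW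

section sym

variable {R : Type u} [CommRing R] {D : Type u} [CommRing D] [Algebra R D] {V : Type u} [AddCommGroup V]
  [Module D V] [Module R V] [IsScalarTower R D V] {ρ : V →ₗ[D] Ω[D⁄R]} {m : Model R D V ρ}
  {e : ℕ} {w : Fin e → ℕ} {u : Fin e → m.PP} (hu : ∀ i, u i ∈ m.Fil (w i))

/-- `SymIn` on `wGpd` -/
def symW (hw1 : ∀ i, 1 ≤ w i) (hw2 : ∀ i, w i ≤ 2) (hg : ∀ n, n = 1 ∨ n = 2 → ∀ x ∈ m.Fil n, ∃ b : Fin e → m.PP,
    (∀ j, b j ∈ m.Fil (n - w j)) ∧ x - ∑ j, u j * b j ∈ m.Fil (n + 1)) : SymIn m (wGpd w hu) where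
  e := e
  wt := w
  wt1 := hw1
  wt2 := hw2
  u := u
  hu := hu
  hg := hg
  F := wFun hu
  N a := wN hu a
  N_id x := wN_id hu x
  N_comp a b := wN_comp hu a b
  N_pull f _ _ _ _ hx hy a := wN_pull hu f hx hy a
  N_wt a _ _ h := wN_wt hu a h
  cond a _ _ φ hφ i := wN_cond hu a φ hφ i

end sym

variable {k : Type u} [CommRing k] {A : NFᵒᵖ ⥤ CommRingCat.{u}} [GRF k A]
  {x : PrimeSpectrum (A.obj (op ⟨0⟩))} (c : CoverDatum k A x)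
  {ι : Type} [Fintype ι] [DecidableEq ι] {C : Matrix ι ι c.H.O} (hC : IsMC C)
  {ω : ι → Ω[(c.Y.D.obj (op ⟨0⟩))⁄(A.obj (op ⟨0⟩))]}
  (hinv : ∀ l, (omPM c.Y.j).map (pr ⟨0⟩) (show (omPM c.Y.j).obj ⟨0⟩ from ω l) =
    (omPM c.Y.j).map (lst ⟨0⟩) (show (omPM c.Y.j).obj ⟨0⟩ from ω l))
  (hco : letI := omk c ⟨0⟩; ∀ l, (omC c ⟨0⟩).coact (show (omPM c.Y.j).obj ⟨0⟩ from ω l) =
    ∑ m, (show (omPM c.Y.j).obj ⟨0⟩ from ω m) ⊗ₜ[k] C m l)
  {m : Model (A.obj (op ⟨0⟩)) (c.Y.D.obj (op ⟨0⟩)) (ι → c.Y.D.obj (op ⟨0⟩)) (rhoOf ω)}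
  {e : ℕ} {w : Fin e → ℕ} {u : Fin e → m.PP} (hu : ∀ i, u i ∈ m.Fil (w i))
  {C' : Matrix (Fin e) (Fin e) c.H.O} (hC' : IsMC C') (hwt : ∀ i j, w i ≠ w j → C' i j = 0)
  (hcond : WCond m w u (dIso c hC hinv hco c.H.O 1 0 1 (upt c.H)) (matPt A c.H.O hC' 1 (upt c.H)).1)

/-- **the input of the last step of the producer** -/
def prodW (hw1 : ∀ i, 1 ≤ w i) (hw2 : ∀ i, w i ≤ 2) (hg : ∀ n, n = 1 ∨ n = 2 → ∀ x ∈ m.Fil n, ∃ b : Fin e → m.PP,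
    (∀ j, b j ∈ m.Fil (n - w j)) ∧ x - ∑ j, u j * b j ∈ m.Fil (n + 1)) : ProdIn c where
  V := ι → c.Y.D.obj (op ⟨0⟩)
  ρ := rhoOf ω
  m := m
  P := wGpd w hu
  sym := symW hu hw1 hw2 hg
  lev := levW c hC hinv hco hu hC' hwt hcond
  eta_match := levW_match c hC hinv hco hu hC' hwt hcond

end Groth.Agent.ResProp.EF.K884.ProdW
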