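import Groth.Agent.ResProp.EF.K884.LevGen

/-!
# The groupoid of triples and its `Lev`
-/

set_option autoImplicit false
set_option linter.dupNamespace false

universe u v

open CategoryTheory Opposite TensorProduct

noncomputable section

namespace Groth.Agent.ResProp.EF.K884.LevTrip

open Groth.Agent.ResProp.EF.K980 K784.BC K784.PM K741.RP EF56
open Groth.Agent.ResProp.EF.Arch Groth.Agent.ResProp.EF.Grp Groth.Agent.ResProp.EF.K863
open Groth.Agent.ResProp.EF.K208 WithConv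
open Groth.Agent.ResProp.EF.K884.LevPM Groth.Agent.ResProp.EF.K884.EtaD Groth.Agent.ResProp.EF.K884.MatPt
  Groth.Agent.ResProp.EF.K884.LevGen

section Gpd

variable {R : Type u} [CommRing R] (D : Type u) [CommRing D] [Algebra R D] (V : Type u) [AddCommGroup V] [Module R V]
  (κ : Type) [Fintype κ] [DecidableEq κ]

/-- the groupoid of triples `(η, η_V, M)` -/
def tripGpd : PGpd.{u} R where
  Hom {R'} _ x y := (BC x D ≃ₐ[R'] BC y D) × (BC x V ≃ₗ[R'] BC y V) × (Matrix κ κ R')ˣ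
  id x := (AlgEquiv.refl, LinearEquiv.refl _ _, 1)
  comp a b := (a.1.trans b.1, a.2.1.trans b.2.1, b.2.2 * a.2.2)
  inv a := (a.1.symm, a.2.1.symm, a.2.2⁻¹)
  id_comp a := Prod.ext rfl (Prod.ext rfl (mul_one _))
  comp_id a := Prod.ext rfl (Prod.ext rfl (one_mul _))
  comp_assoc a b c := Prod.ext rfl (Prod.ext rfl (mul_assoc _ _ _).symm)
  comp_inv a := Prod.ext (AlgEquiv.ext fun d => a.1.symm_apply_apply d)
    (Prod.ext (LinearEquiv.ext fun v => a.2.1.symm_apply_apply v) (inv_mul_cancel _))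
  inv_comp a := Prod.ext (AlgEquiv.ext fun d => a.1.apply_symm_apply d)
    (Prod.ext (LinearEquiv.ext fun v => a.2.1.apply_symm_apply v) (mul_inv_cancel _))
  pull f _ _ _ _ hx hy a := (pullA f hx hy a.1, BC.pullE f hx hy a.2.1, K567.mapU f a.2.2)
  pull_id _ _ _ hx := Prod.ext (pullA_refl hx) (Prod.ext (BC.pullE_refl hx) (K567.mapU_one _))
  pull_comp _ _ _ _ _ _ _ hx hy hz a b := Prod.ext (pullA_trans hx hy hz a.1 b.1)
    (Prod.ext (BC.pullE_trans hx hy hz a.2.1 b.2.1) (K567.mapU_mul _ _ _))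
  pull_idRing a := Prod.ext (pullA_idRing a.1 _ _) (Prod.ext (BC.pullE_idRing a.2.1 _ _) (Units.ext rfl))
  pull_pull _ _ _ _ _ _ _ _ hx hy hx' hy' hx'' hy'' a :=
    Prod.ext (pullA_pullA hx hy hx' hy' hx'' hy'' a.1)
      (Prod.ext (BC.pullE_pullE hx hy hx' hy' hx'' hy'' a.2.1) (Units.ext rfl))

end Gpd

variable {k : Type u} [CommRing k] {A : NFᵒᵖ ⥤ CommRingCat.{u}} [GRF k A]
  {x : PrimeSpectrum (A.obj (op ⟨0⟩))} (c : CoverDatum k A x)
  {ι : Type} [Fintype ι] [DecidableEq ι] {C : Matrix ι ι c.H.O} (hC : IsMC C)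
  {κ : Type} [Fintype κ] [DecidableEq κ] {C' : Matrix κ κ c.H.O} (hC' : IsMC C')

/-- the action on `V = (ι → D)` -/
def etaV (B : Type u) [CommRing B] [Algebra k B] (n : ℕ) (i j : Fin (n + 1)) (h : (pts c.H).pt B) :
    BC (xp k A B n i) (ι → c.Y.D.obj (op ⟨0⟩)) ≃ₗ[B ⊗[k] A.obj (op ⟨n⟩)] BC (xp k A B n j) (ι → c.Y.D.obj (op ⟨0⟩)) :=
  K567.matV (etaD c B n i j h) (matPt A B hC n h)

theorem etaV_one (B : Type u) [CommRing B] [Algebra k B] (n : ℕ) (i : Fin (n + 1)) :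
    etaV c hC B n i i 1 = LinearEquiv.refl _ _ := by
  unfold etaV
  rw [etaD_one, matPt_one]
  exact K567.matV_refl

theorem etaV_comp (B : Type u) [CommRing B] [Algebra k B] (n : ℕ) (i j l : Fin (n + 1)) (h h' : (pts c.H).pt B) :
    (etaV c hC B n i j h).trans (etaV c hC B n j l h') = etaV c hC B n i l (h' * h) := by
  unfold etaV
  rw [K567.matV_trans, etaD_comp, matPt_mul]

theorem etaV_pull {B : Type u} [CommRing B] [Algebra k B] {B' : Type u} [CommRing B'] [Algebra k B'] (f : B →ₐ[k] B')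
    {m n : ℕ} (a : Fin (m + 1) → Fin (n + 1)) (i j : Fin (m + 1)) (h : (pts c.H).pt B) :
    BC.pullE (lv k A f a) (lv_xp k A f a i) (lv_xp k A f a j) (etaV c hC B m i j h) =
      etaV c hC B' n (a i) (a j) ((pts c.H).map f h) := by
  unfold etaV
  rw [K567.pullE_matV, etaD_pull, mapU_matPt]

/-- the `Lev` of triples -/
def trLev : Lev k A (pts c.H) (tripGpd (c.Y.D.obj (op ⟨0⟩)) (ι → c.Y.D.obj (op ⟨0⟩)) κ) where
  ar B _ _ n i j h := (etaD c B n i j h, etaV c hC B n i j h, matPt A B hC' n h)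
  ar_one B _ _ n i := Prod.ext (etaD_one c n i) (Prod.ext (etaV_one c hC B n i) (matPt_one hC' n))
  ar_comp B _ _ n i j l h h' := Prod.ext (etaD_comp c n i j l h h')
    (Prod.ext (etaV_comp c hC B n i j l h h') (matPt_mul hC' n h h').symm)
  ar_pull f _ _ a i j h := Prod.ext (etaD_pull c f a i j h)
    (Prod.ext (etaV_pull c hC f a i j h) (mapU_matPt hC' f a h))

end Groth.Agent.ResProp.EF.K884.LevTrip
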