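import Groth.Agent.ResProp.EF.K743.Iface
import Mathlib.LinearAlgebra.Matrix.Adjugate

/-!
# The invariant functions separate the points of the quotient (`K743.StmtMono`)
-/

set_option autoImplicit false
set_option linter.unusedSectionVars false

universe u

open Groth.Agent.Grpsch.AffGrpd

namespace Groth.Agent.ResProp.EF.K884

open Groth.Agent.ResProp.EF.K743

/-! ### Linear algebra: matrices whose maximal minors generate the unit ideal -/

section Lin

variable {T : Type u} [CommRing T] {J : Type} [Fintype J] [DecidableEq J] {r : ℕ} (M : J → Fin r → T)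

/-- the square submatrix -/
def sub (I : Fin r → J) : Matrix (Fin r) (Fin r) T := Matrix.of fun i a => M (I i) a

theorem sub_update (I : Fin r → J) (i : Fin r) (j : J) :
    sub M (Function.update I i j) = (sub M I).updateRow i (M j) := by
  ext k a
  by_cases hk : k = i
  · subst hk
    simp [sub]
  · simp [sub, Function.update_of_ne hk, Matrix.updateRow_ne hk]

theorem det_sub_update (I : Fin r → J) (i : Fin r) (j : J) :
    (sub M (Function.update I i j)).det = ∑ a, M j a * (sub M I).adjugate a i := by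
  rw [sub_update, ← Matrix.cramer_transpose_apply, Matrix.cramer_eq_adjugate_mulVec, ← Matrix.adjugate_transpose,
    Matrix.mulVec, dotProduct]
  exact Finset.sum_congr rfl fun a _ => by rw [Matrix.transpose_apply, mul_comm]

variable (c : (Fin r → J) → T)

/-- a left inverse made from the cofactors -/
def linv (a : Fin r) (j : J) : T := ∑ I, c I * ∑ i, (sub M I).adjugate a i * if I i = j then 1 else 0

theorem linv_sum (a : Fin r) (w : J → T) :
    ∑ j, linv M c a j * w j = ∑ I, c I * ∑ i, (sub M I).adjugate a i * w (I i) := by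
  simp only [linv, Finset.sum_mul]
  rw [Finset.sum_comm]
  refine Finset.sum_congr rfl fun I _ => ?_
  simp only [mul_assoc]
  rw [← Finset.mul_sum]
  congr 1
  simp only [Finset.sum_mul]
  rw [Finset.sum_comm]
  refine Finset.sum_congr rfl fun i _ => ?_
  simp

variable {M c}

theorem linv_mul (hc : ∑ I, c I * (sub M I).det = 1) (a b : Fin r) :
    ∑ j, linv M c a j * M j b = if a = b then 1 else 0 := by
  rw [linv_sum]
  have h : ∀ I : Fin r → J, ∑ i, (sub M I).adjugate a i * M (I i) b = (sub M I).det * if a = b then 1 else 0 := by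
    intro I
    have h1 := congrFun (congrFun (Matrix.adjugate_mul (sub M I)) a) b
    rw [Matrix.mul_apply, Matrix.smul_apply, Matrix.one_apply, smul_eq_mul] at h1
    exact h1
  simp only [h, ← mul_assoc]
  rw [← Finset.sum_mul, hc, one_mul]

theorem eq_of_cramer (hc : ∑ I, c I * (sub M I).det = 1) (w : J → T)
    (hw : ∀ (I : Fin r → J) (j : J), (sub M I).det * w j = ∑ i, (sub M (Function.update I i j)).det * w (I i))
    (j : J) : w j = ∑ a, M j a * ∑ k, linv M c a k * w k := by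
  have h1 : w j = ∑ I, c I * ((sub M I).det * w j) := by
    simp only [← mul_assoc]
    rw [← Finset.sum_mul, hc, one_mul]
  rw [h1]
  simp only [linv_sum, Finset.mul_sum]
  rw [Finset.sum_comm]
  refine Finset.sum_congr rfl fun I _ => ?_
  rw [hw]
  simp only [det_sub_update, Finset.mul_sum, Finset.sum_mul]
  rw [Finset.sum_comm]
  refine Finset.sum_congr rfl fun a _ => Finset.sum_congr rfl fun i _ => ?_
  ring

end Lin

theorem prod_sum' {T : Type u} [CommRing T] {J : Type} [Fintype J] [DecidableEq J] {m : ℕ} (f : Fin m → J → T) :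
    ∏ i, ∑ j, f i j = ∑ p : Fin m → J, ∏ i, f i (p i) := by
  rw [Finset.prod_univ_sum, Fintype.piFinset_univ]

/-! ### Groupoids -/

section Grpd

variable {A Γ : Type u} [CommRing A] [CommRing Γ] (G : RGrpd A Γ)

theorem comp_congr {T : Type u} [CommRing T] {α α' β β' : Γ →+* T} (h1 : α = α') (h2 : β = β')
    (h : α.comp G.s = β.comp G.t) (h' : α'.comp G.s = β'.comp G.t) : G.comp α β h = G.comp α' β' h' := by
  subst h1 h2
  rfl

theorem inv_inv {T : Type u} [CommRing T] (α : Γ →+* T) : (α.comp G.i).comp G.i = α := by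
  have hs : (α.comp G.i).comp G.s = α.comp G.t := by rw [RingHom.comp_assoc, G.i_s]
  have ht : (α.comp G.i).comp G.t = α.comp G.s := by rw [RingHom.comp_assoc, G.i_t]
  set β := α.comp G.i with hβ
  set γ := β.comp G.i with hγ
  have hγs : γ.comp G.s = β.comp G.t := by rw [hγ, RingHom.comp_assoc, G.i_s]
  have hγt : γ.comp G.t = β.comp G.s := by rw [hγ, RingHom.comp_assoc, G.i_t]
  -- γ = γ (β α) = (γ β) α = α
  have h1 := G.assoc γ β α (by rw [hγs]) (by rw [hs])
  have h2 : G.comp γ β (by rw [hγs]) = (β.comp G.s).comp G.e := G.i_comp β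
  have h3 : G.comp β α (by rw [hs]) = (α.comp G.s).comp G.e := G.i_comp α
  have h4 := G.e_comp α
  have h5 := G.comp_e γ
  rw [comp_congr G h2 rfl _ (by rw [hs, RingHom.comp_assoc, RingHom.comp_assoc, G.e_s, RingHom.comp_id])] at h1
  rw [comp_congr G rfl h3 _ (by rw [hγs, ht, RingHom.comp_assoc, RingHom.comp_assoc, G.e_t, RingHom.comp_id])] at h1
  have h6 : G.comp ((β.comp G.s).comp G.e) α
      (by rw [hs, RingHom.comp_assoc, RingHom.comp_assoc, G.e_s, RingHom.comp_id]) = α :=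
    (comp_congr G (by rw [hs]) rfl _ _).trans h4
  have h7 : G.comp γ ((α.comp G.s).comp G.e)
      (by rw [hγs, ht, RingHom.comp_assoc, RingHom.comp_assoc, G.e_t, RingHom.comp_id]) = γ :=
    (comp_congr G rfl (by rw [hγs, ht]) _ _).trans h5
  rw [h6, h7] at h1
  exact h1.symm

end Grpd

section Main

variable {𝕜 A Γ : Type u} [CommRing 𝕜] [CommRing A] [CommRing Γ] [Algebra 𝕜 A] {G : RGrpd A Γ}
  {X : Gens G} (M : MData 𝕜 G X) (F : Frame G X M.m) {T : Type u} [CommRing T]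

theorem exists_coeff {φ : F.D →+* T} (hφ : F.InW φ) :
    (∃ c : (Fin F.r₁ → Fin X.n) → T, ∑ I, c I * (sub (fun j a => φ (F.Q₁ j a)) I).det = 1) ∧
    (∃ c : (Fin F.r₂ → Fin M.m → Fin X.n) → T, ∑ I, c I * (sub (fun J b => φ (F.Q₂ J b)) I).det = 1) := by
  have d1 : ∀ I, (sub (fun j a => φ (F.Q₁ j a)) I).det = φ (F.m₁ I) := by
    intro I
    rw [FrameData.m₁, RingHom.map_det]
    rfl
  have d2 : ∀ I, (sub (fun J b => φ (F.Q₂ J b)) I).det = φ (F.m₂ I) := by
    intro I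
    rw [FrameData.m₂, RingHom.map_det]
    rfl
  have h1 : Ideal.span (Set.range fun I => φ (F.m₁ I)) = ⊤ := by
    rw [eq_top_iff, ← hφ, Ideal.span_le]
    rintro _ ⟨I, rfl⟩
    change φ (F.m₁ I.1 * F.m₂ I.2) ∈ _
    rw [map_mul]
    exact Ideal.mul_mem_right _ _ (Ideal.subset_span ⟨I.1, rfl⟩)
  have h2 : Ideal.span (Set.range fun I => φ (F.m₂ I)) = ⊤ := by
    rw [eq_top_iff, ← hφ, Ideal.span_le]
    rintro _ ⟨I, rfl⟩
    change φ (F.m₁ I.1 * F.m₂ I.2) ∈ _
    rw [map_mul]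
    exact Ideal.mul_mem_left _ _ (Ideal.subset_span ⟨I.2, rfl⟩)
  constructor
  · obtain ⟨c, hc⟩ := (Ideal.mem_span_range_iff_exists_fun).mp ((Ideal.eq_top_iff_one _).mp h1)
    exact ⟨c, by simpa only [d1] using hc⟩
  · obtain ⟨c, hc⟩ := (Ideal.mem_span_range_iff_exists_fun).mp ((Ideal.eq_top_iff_one _).mp h2)
    exact ⟨c, by simpa only [d2] using hc⟩

/-- coordinates of an arrow in the frames -/
structure Crd (φ : F.D →+* T) (h : Γ →+* T) (u₁ : Fin F.r₁ → T) (u₂ : Fin F.r₂ → T) : Prop where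
  x : ∀ j, h (X.x j) = ∑ a, φ (F.Q₁ j a) * u₁ a
  mon : ∀ J : Fin M.m → Fin X.n, h (X.mon J) = ∑ b, φ (F.Q₂ J b) * u₂ b

theorem map_mon {R : Type u} [CommRing R] (h : Γ →+* R) {m : ℕ} (J : Fin m → Fin X.n) :
    h (X.mon J) = ∏ i, h (X.x (J i)) := by
  rw [Gens.mon, map_prod]

theorem map_Q₂ {R : Type u} [CommRing R] (φ : F.D →+* R) (J : Fin M.m → Fin X.n) (b : Fin F.r₂) :
    φ (F.Q₂ J b) = ∑ κ : Fin M.m → Fin F.r₁, (∏ i, φ (F.Q₁ (J i) (κ i))) * φ (F.μ κ b) := by
  simp only [FrameData.Q₂, map_sum, map_mul, map_prod]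

theorem exists_crd {φ : F.D →+* T} (hφ : F.InW φ) (h : Γ →+* T) (hs : h.comp G.s = φ.comp F.ι) :
    ∃ u₁ u₂, Crd M F φ h u₁ u₂ ∧ (∑ a, φ (F.Q₁ X.j0 a) * u₁ a = 1) ∧
      ∀ κ : Fin M.m → Fin F.r₁, ∑ b, φ (F.μ κ b) * u₂ b = ∏ i, u₁ (κ i) := by
  obtain ⟨⟨c₁, hc₁⟩, ⟨c₂, hc₂⟩⟩ := exists_coeff M F hφ
  have d1 : ∀ I, (sub (fun j a => φ (F.Q₁ j a)) I).det = φ (F.m₁ I) := by
    intro I
    rw [FrameData.m₁, RingHom.map_det]
    rfl
  have d2 : ∀ I, (sub (fun J b => φ (F.Q₂ J b)) I).det = φ (F.m₂ I) := by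
    intro I
    rw [FrameData.m₂, RingHom.map_det]
    rfl
  let L₁ := linv (fun j a => φ (F.Q₁ j a)) c₁
  have hL₁ : ∀ a b, ∑ j, L₁ a j * φ (F.Q₁ j b) = if a = b then 1 else 0 := linv_mul hc₁
  let u₁ : Fin F.r₁ → T := fun a => ∑ k, L₁ a k * h (X.x k)
  let u₂ : Fin F.r₂ → T := fun b => ∑ K, linv (fun J b => φ (F.Q₂ J b)) c₂ b K * h (X.mon K)
  have e1 : ∀ j, h (X.x j) = ∑ a, φ (F.Q₁ j a) * u₁ a := fun j =>
    eq_of_cramer (M := fun j a => φ (F.Q₁ j a)) hc₁ (fun j => h (X.x j)) (fun I j => by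
      simp only [d1]
      exact F.P1 φ h hs I j) j
  have e2 : ∀ J : Fin M.m → Fin X.n, h (X.mon J) = ∑ b, φ (F.Q₂ J b) * u₂ b := fun J =>
    eq_of_cramer (M := fun J b => φ (F.Q₂ J b)) hc₂ (fun J => h (X.mon J)) (fun I J => by
      simp only [d2]
      exact F.P2 φ h hs I J) J
  refine ⟨u₁, u₂, ⟨e1, e2⟩, ?_, fun κ => ?_⟩
  · rw [← e1, X.hx0, map_one]
  · symm
    calc ∏ i, u₁ (κ i) = ∑ J : Fin M.m → Fin X.n, ∏ i, (L₁ (κ i) (J i) * h (X.x (J i))) :=
          prod_sum' (fun i k => L₁ (κ i) k * h (X.x k))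
      _ = ∑ J : Fin M.m → Fin X.n, (∏ i, L₁ (κ i) (J i)) * h (X.mon J) := by
          refine Finset.sum_congr rfl fun J _ => ?_
          rw [Finset.prod_mul_distrib, map_mon]
      _ = ∑ J : Fin M.m → Fin X.n, ∑ b, ∑ κ' : Fin M.m → Fin F.r₁,
            (∏ i, (L₁ (κ i) (J i) * φ (F.Q₁ (J i) (κ' i)))) * (φ (F.μ κ' b) * u₂ b) := by
          refine Finset.sum_congr rfl fun J _ => ?_
          rw [e2, Finset.mul_sum]
          refine Finset.sum_congr rfl fun b _ => ?_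
          rw [map_Q₂, Finset.sum_mul, Finset.mul_sum]
          refine Finset.sum_congr rfl fun κ' _ => ?_
          rw [Finset.prod_mul_distrib]
          ring
      _ = ∑ b, ∑ κ' : Fin M.m → Fin F.r₁,
            (∑ J : Fin M.m → Fin X.n, ∏ i, (L₁ (κ i) (J i) * φ (F.Q₁ (J i) (κ' i)))) * (φ (F.μ κ' b) * u₂ b) := by
          rw [Finset.sum_comm]
          refine Finset.sum_congr rfl fun b _ => ?_
          rw [Finset.sum_comm]
          exact Finset.sum_congr rfl fun κ' _ => by rw [Finset.sum_mul]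
      _ = ∑ b, ∑ κ' : Fin M.m → Fin F.r₁, (if κ = κ' then 1 else 0) * (φ (F.μ κ' b) * u₂ b) := by
          refine Finset.sum_congr rfl fun b _ => Finset.sum_congr rfl fun κ' _ => ?_
          congr 1
          rw [← prod_sum' (fun i k => L₁ (κ i) k * φ (F.Q₁ k (κ' i)))]
          simp only [hL₁]
          by_cases hk : κ = κ'
          · subst hk
            simp
          · rw [if_neg hk]
            obtain ⟨i, hi⟩ := Function.ne_iff.mp hk
            exact Finset.prod_eq_zero (Finset.mem_univ i) (if_neg hi)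
      _ = ∑ b, φ (F.μ κ b) * u₂ b := by
          refine Finset.sum_congr rfl fun b _ => ?_
          simp

/-- from coordinates to arrows -/
theorem exists_arrow (φ : F.D →+* T) (u₁ : Fin F.r₁ → T) (u₂ : Fin F.r₂ → T)
    (h0 : ∑ a, φ (F.Q₁ X.j0 a) * u₁ a = 1)
    (hμ : ∀ κ : Fin M.m → Fin F.r₁, ∑ b, φ (F.μ κ b) * u₂ b = ∏ i, u₁ (κ i)) :
    ∃ h : Γ →+* T, h.comp G.s = φ.comp F.ι ∧ Crd M F φ h u₁ u₂ := by
  let v : Fin X.n → T := fun j => ∑ a, φ (F.Q₁ j a) * u₁ a
  have key : ∀ J : Fin M.m → Fin X.n, ∏ i, v (J i) = ∑ b, φ (F.Q₂ J b) * u₂ b := by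
    intro J
    calc ∏ i, v (J i) = ∑ κ : Fin M.m → Fin F.r₁, ∏ i, (φ (F.Q₁ (J i) (κ i)) * u₁ (κ i)) :=
          prod_sum' (fun i a => φ (F.Q₁ (J i) a) * u₁ a)
      _ = ∑ κ : Fin M.m → Fin F.r₁, (∏ i, φ (F.Q₁ (J i) (κ i))) * ∑ b, φ (F.μ κ b) * u₂ b := by
          refine Finset.sum_congr rfl fun κ _ => ?_
          rw [Finset.prod_mul_distrib, hμ]
      _ = ∑ b, φ (F.Q₂ J b) * u₂ b := by
          simp only [map_Q₂, Finset.sum_mul, Finset.mul_sum]
          rw [Finset.sum_comm]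
          refine Finset.sum_congr rfl fun b _ => Finset.sum_congr rfl fun κ _ => ?_
          ring
  obtain ⟨h, hs, hx⟩ := M.pres T (φ.comp F.ι) v h0 (fun R hR => by
    have h4 : ∀ b, ∑ J, φ (F.ι (R J)) * φ (F.Q₂ J b) = 0 := fun b => by
      have := congrArg φ (F.P4 R hR b)
      simpa only [map_sum, map_mul, map_zero] using this
    calc ∑ J, (φ.comp F.ι) (R J) * ∏ i, v (J i) = ∑ J, ∑ b, (φ (F.ι (R J)) * φ (F.Q₂ J b)) * u₂ b := by
          refine Finset.sum_congr rfl fun J _ => ?_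
          rw [key, Finset.mul_sum]
          refine Finset.sum_congr rfl fun b _ => ?_
          rw [RingHom.comp_apply, mul_assoc]
      _ = ∑ b, (∑ J, φ (F.ι (R J)) * φ (F.Q₂ J b)) * u₂ b := by
          rw [Finset.sum_comm]
          exact Finset.sum_congr rfl fun b _ => by rw [Finset.sum_mul]
      _ = 0 := by simp only [h4, zero_mul, Finset.sum_const_zero])
  refine ⟨h, hs, hx, fun J => ?_⟩
  rw [map_mon, ← key]
  exact Finset.prod_congr rfl fun i _ => hx _

theorem ext_arrow {h h' : Γ →+* T} (hs : h.comp G.s = h'.comp G.s) (hx : ∀ j, h (X.x j) = h' (X.x j)) : h = h' := by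
  have h1 : Subring.closure (Set.range G.s ∪ Set.range X.x) ≤ RingHom.eqLocus h h' := by
    rw [Subring.closure_le]
    rintro _ (⟨a, rfl⟩ | ⟨j, rfl⟩)
    · exact congrArg (fun f : A →+* T => f a) hs
    · exact hx j
  rw [X.gen] at h1
  exact RingHom.ext fun y => h1 (Subring.mem_top y)

theorem ext_frame {φ ψ : F.D →+* T} (hι : φ.comp F.ι = ψ.comp F.ι) (hQ : ∀ j a, φ (F.Q₁ j a) = ψ (F.Q₁ j a))
    (hμ : ∀ κ b, φ (F.μ κ b) = ψ (F.μ κ b)) : φ = ψ := by
  have h1 : Subring.closure (Set.range F.ι ∪ Set.range (fun p : Fin X.n × Fin F.r₁ => F.Q₁ p.1 p.2) ∪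
    Set.range (fun p : (Fin M.m → Fin F.r₁) × Fin F.r₂ => F.μ p.1 p.2)) ≤ RingHom.eqLocus φ ψ := by
    rw [Subring.closure_le]
    rintro _ ((⟨a, rfl⟩ | ⟨p, rfl⟩) | ⟨p, rfl⟩)
    · exact congrArg (fun f : A →+* T => f a) hι
    · exact hQ _ _
    · exact hμ _ _
  rw [F.gen] at h1
  exact RingHom.ext fun y => h1 (Subring.mem_top y)

end Main

theorem mono : StmtMono.{u} := by
  intro 𝕜 A Γ _ _ _ _ G X M F hk T _ φ ψ hφ hψ hkk hθ
  -- the identity at the second point and its coordinates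
  set a₂ : A →+* T := ψ.comp F.ι with ha₂
  have hes : (a₂.comp G.e).comp G.s = ψ.comp F.ι := by
    rw [RingHom.comp_assoc, G.e_s, RingHom.comp_id]
  obtain ⟨u₁, u₂, hc, h0, hμ⟩ := exists_crd M F hψ (a₂.comp G.e) hes
  have t0 : ∀ a, φ (F.Q₁ X.j0 a) = ψ (F.Q₁ X.j0 a) := fun a => hθ (.one a)
  have tμ : ∀ κ b, φ (F.μ κ b) = ψ (F.μ κ b) := fun κ b => hθ (.mu κ b)
  obtain ⟨σ, hσs, hσ⟩ := exists_arrow M F φ u₁ u₂ (by simpa only [t0] using h0) (fun κ => by
    simpa only [tμ] using hμ κ)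
  have hal : ∀ i b, ∑ J, φ (F.ι (M.al i J)) * φ (F.Q₂ J b) = ∑ J, ψ (F.ι (M.al i J)) * ψ (F.Q₂ J b) := by
    intro i b
    have := hθ (.al i b)
    simpa only [theta, map_sum, map_mul] using this
  have het : ∀ j a b, ∑ k, ∑ J, φ (F.ι (M.et k j J)) * φ (F.Q₁ k a) * φ (F.Q₂ J b) =
      ∑ k, ∑ J, ψ (F.ι (M.et k j J)) * ψ (F.Q₁ k a) * ψ (F.Q₂ J b) := by
    intro j a b
    have := hθ (.et j a b)
    simpa only [theta, map_sum, map_mul] using this
  -- the target
  have hσt : σ.comp G.t = ψ.comp F.ι := by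
    have h1 : (a₂.comp G.e).comp G.t = ψ.comp F.ι := by rw [RingHom.comp_assoc, G.e_t, RingHom.comp_id]
    rw [← h1]
    have hgen : ∀ i, σ (G.t (M.a i)) = (a₂.comp G.e) (G.t (M.a i)) := by
      intro i
      have s1 : ∀ (χ : F.D →+* T) (h : Γ →+* T), h.comp G.s = χ.comp F.ι → Crd M F χ h u₁ u₂ →
          h (G.t (M.a i)) = ∑ b, (∑ J, χ (F.ι (M.al i J)) * χ (F.Q₂ J b)) * u₂ b := by
        intro χ h hs hcr
        rw [M.hal i, map_sum]
        have : ∀ J, h (G.s (M.al i J) * X.mon J) = ∑ b, χ (F.ι (M.al i J)) * χ (F.Q₂ J b) * u₂ b := by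
          intro J
          rw [map_mul, hcr.mon, show h (G.s (M.al i J)) = χ (F.ι (M.al i J)) from
            congrArg (fun f : A →+* T => f (M.al i J)) hs, Finset.mul_sum]
          exact Finset.sum_congr rfl fun b _ => by rw [mul_assoc]
        simp only [this]
        rw [Finset.sum_comm]
        exact Finset.sum_congr rfl fun b _ => by rw [Finset.sum_mul]
      rw [s1 φ σ hσs hσ, s1 ψ _ hes hc]
      simp only [hal]
    -- equality on generators of `A` over `𝕜`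
    have hbase : ∀ c : 𝕜, σ (G.t (algebraMap 𝕜 A c)) = (a₂.comp G.e) (G.t (algebraMap 𝕜 A c)) := by
      intro c
      have h2 : G.t (algebraMap 𝕜 A c) = G.s (algebraMap 𝕜 A c) :=
        (congrArg (fun f : 𝕜 →+* Γ => f c) hk).symm
      rw [h2]
      have h3 : σ (G.s (algebraMap 𝕜 A c)) = φ (F.ι (algebraMap 𝕜 A c)) :=
        congrArg (fun f : A →+* T => f (algebraMap 𝕜 A c)) hσs
      have h4 : (a₂.comp G.e) (G.s (algebraMap 𝕜 A c)) = ψ (F.ι (algebraMap 𝕜 A c)) :=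
        congrArg (fun f : A →+* T => f (algebraMap 𝕜 A c)) hes
      rw [h3, h4]
      exact congrArg (fun f : 𝕜 →+* T => f c) hkk
    let _ : Algebra 𝕜 T := (σ.comp (G.t.comp (algebraMap 𝕜 A))).toAlgebra
    let f₁ : A →ₐ[𝕜] T := { (σ.comp G.t) with commutes' := fun c => rfl }
    let f₂ : A →ₐ[𝕜] T := { ((a₂.comp G.e).comp G.t) with commutes' := fun c => (hbase c).symm }
    have h5 : f₁ = f₂ := by
      refine AlgHom.ext_of_adjoin_eq_top M.ha ?_
      rintro _ ⟨i, rfl⟩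
      exact hgen i
    exact congrArg (fun f : A →ₐ[𝕜] T => f.toRingHom) h5
  -- the action on the second frame
  have hact : F.act σ φ hσs = ψ := by
    refine ext_frame M F ?_ (fun j a => ?_) (fun κ b => ?_)
    · rw [F.act_ι, hσt]
    · have hid : ψ (F.Q₁ j a) = ∑ k, (a₂.comp G.e) (G.i (X.c k j)) * ψ (F.Q₁ k a) := by
        rw [← F.act_Q₁ (a₂.comp G.e) ψ hes j a, F.act_id ψ hes]
      rw [F.act_Q₁, hid]
      have s2 : ∀ (χ : F.D →+* T) (h : Γ →+* T), h.comp G.s = χ.comp F.ι → Crd M F χ h u₁ u₂ →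
          ∑ k, h (G.i (X.c k j)) * χ (F.Q₁ k a) =
            ∑ b, (∑ k, ∑ J, χ (F.ι (M.et k j J)) * χ (F.Q₁ k a) * χ (F.Q₂ J b)) * u₂ b := by
        intro χ h hs hcr
        have : ∀ k, h (G.i (X.c k j)) * χ (F.Q₁ k a) =
            ∑ b, ∑ J, χ (F.ι (M.et k j J)) * χ (F.Q₁ k a) * χ (F.Q₂ J b) * u₂ b := by
          intro k
          rw [M.het k j, map_sum, Finset.sum_mul, Finset.sum_comm]
          refine Finset.sum_congr rfl fun J _ => ?_
          rw [map_mul, hcr.mon, show h (G.s (M.et k j J)) = χ (F.ι (M.et k j J)) from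
            congrArg (fun f : A →+* T => f (M.et k j J)) hs, Finset.mul_sum, Finset.sum_mul]
          exact Finset.sum_congr rfl fun b _ => by ring
        simp only [this]
        rw [Finset.sum_comm]
        refine Finset.sum_congr rfl fun b _ => ?_
        rw [Finset.sum_mul]
        exact Finset.sum_congr rfl fun k _ => by rw [Finset.sum_mul]
      rw [s2 φ σ hσs hσ, s2 ψ _ hes hc]
      simp only [het]
    · rw [F.act_μ, tμ]
  refine ⟨σ, ⟨hσs, hact⟩, ?_⟩
  rintro σ' ⟨hσ's, hact'⟩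
  -- uniqueness
  refine ext_arrow (X := X) (hσ's.trans hσs.symm) fun j => ?_
  have ht' : σ'.comp G.t = ψ.comp F.ι := by rw [← F.act_ι σ' φ hσ's, hact']
  have hcomp : (a₂.comp G.e).comp G.s = σ'.comp G.t := by rw [hes, ht']
  have e1 : G.comp (a₂.comp G.e) σ' hcomp = σ' :=
    (comp_congr G (by rw [ht']) rfl _ _).trans (G.e_comp σ')
  have e2 := X.hc (a₂.comp G.e) σ' hcomp j
  rw [e1] at e2
  rw [e2, hσ.x]
  -- action of the inverse
  have hinvs : (σ'.comp G.i).comp G.s = ψ.comp F.ι := by rw [RingHom.comp_assoc, G.i_s, ht']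
  have hinvs' : (σ'.comp G.i).comp G.s = (F.act σ' φ hσ's).comp F.ι := by rw [hact', hinvs]
  have hc1 : (σ'.comp G.i).comp G.s = σ'.comp G.t := by rw [RingHom.comp_assoc, G.i_s]
  have hback : ∀ a, ∑ k, σ' (X.c k j) * ψ (F.Q₁ k a) = φ (F.Q₁ j a) := by
    intro a
    have h1 := F.act_comp (σ'.comp G.i) σ' φ hσ's hc1 (by rw [G.comp_s, hσ's]) hinvs'
    have h2 : G.comp (σ'.comp G.i) σ' hc1 = (φ.comp F.ι).comp G.e := by
      rw [← hσ's]
      exact G.i_comp σ'
    have h3 : F.act (σ'.comp G.i) (F.act σ' φ hσ's) hinvs' = φ := by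
      rw [← h1]
      have h4 : ∀ (ρ : Γ →+* T) (hρ : ρ.comp G.s = φ.comp F.ι), ρ = (φ.comp F.ι).comp G.e → F.act ρ φ hρ = φ := by
        rintro _ hρ rfl
        exact F.act_id φ hρ
      exact h4 _ _ h2
    have h5 : ∀ (ψ' : F.D →+* T) (hψ' : (σ'.comp G.i).comp G.s = ψ'.comp F.ι), ψ' = ψ →
        F.act (σ'.comp G.i) ψ' hψ' (F.Q₁ j a) = ∑ k, σ' (X.c k j) * ψ (F.Q₁ k a) := by
      rintro _ hψ' rfl
      rw [F.act_Q₁]
      refine Finset.sum_congr rfl fun k _ => ?_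
      congr 1
      exact congrArg (fun f : Γ →+* T => f (X.c k j)) (inv_inv G σ')
    rw [← h5 _ hinvs' hact', h3]
  calc ∑ k, (a₂.comp G.e) (X.x k) * σ' (X.c k j) = ∑ k, ∑ a, (σ' (X.c k j) * ψ (F.Q₁ k a)) * u₁ a := by
        refine Finset.sum_congr rfl fun k _ => ?_
        rw [hc.x, Finset.sum_mul]
        exact Finset.sum_congr rfl fun a _ => by ring
    _ = ∑ a, (∑ k, σ' (X.c k j) * ψ (F.Q₁ k a)) * u₁ a := by
        rw [Finset.sum_comm]
        exact Finset.sum_congr rfl fun a _ => by rw [Finset.sum_mul]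
    _ = ∑ a, φ (F.Q₁ j a) * u₁ a := by simp only [hback]

end Groth.Agent.ResProp.EF.K884
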