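import Groth.Agent.ResProp.EF.K884.LevPM
import Groth.Agent.ResProp.EF.K863.PullA

/-!
# The arrows on `D` of a cover datum

`etaD c B n i j h : BC (xp k A B n i) D⟨0⟩ ≃ₐ[B ⊗ A⟨n⟩] BC (xp k A B n j) D⟨0⟩`, with `etaD_one`, `etaD_comp`, `etaD_pull`
and the characterization `vtxD_etaD` (`EtaMatch` of K980/Nodes.lean).  All `k`-algebras `B`.
-/

set_option autoImplicit false
set_option linter.dupNamespace false

universe u

open CategoryTheory Opposite TensorProduct

noncomputable section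

namespace Groth.Agent.ResProp.EF.K884.EtaD

open Groth.Agent.ResProp.EF.K980 K784.BC K784.PM K741.RP EF56
open Groth.Agent.ResProp.EF.Arch Groth.Agent.ResProp.EF.Grp
open Groth.Agent.ResProp.EF.K208 Groth.Agent.ResProp.EF.K649 Groth.Agent.ResProp.EF.K172 WithConv
open Groth.Agent.ResProp.EF.K884.LevPM

variable {k : Type u} [CommRing k] {A : NFᵒᵖ ⥤ CommRingCat.{u}} [GRF k A]

theorem isBC_self {R S : Type u} [CommRing R] [CommRing S] (φ : R →+* S) : IsBC φ φ.toAddMonoidHom := by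
  refine IsBC.of_lift (fun a m => map_mul φ a m) fun Q _ _ g hg => ?_
  refine ⟨LinearMap.toSpanSingleton S Q (g 1), fun m => ?_, fun g' hg' => ?_⟩
  · rw [LinearMap.toSpanSingleton_apply]
    have := hg m 1
    rw [smul_eq_mul, mul_one] at this
    exact this.symm
  · refine LinearMap.ext_ring ?_
    rw [LinearMap.toSpanSingleton_apply, one_smul, ← hg' 1]
    exact congrArg g' (map_one φ).symm

/-- `D` as a presheaf of modules over `A` -/
def yPM (Y : AffOver A) : PM.{u} A where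
  obj a := Y.D.obj (op a)
  map φ := (rg Y.D φ).toAddMonoidHom
  map_smul {a b} φ r m := by
    change rg Y.D φ (r • m) = rg A φ r • rg Y.D φ m
    rw [Algebra.smul_def, Algebra.smul_def, map_mul]
    congr 1
    exact (congrArg (fun f => f.hom r) (Y.j.naturality φ.op)).symm
  map_id a m := by
    change rg Y.D (𝟙 a) m = m
    rw [rg_id]
    rfl
  map_comp ψ φ m := rg_comp_apply Y.D ψ φ m

theorem yPM_cart (Y : AffOver A) : (yPM Y).Cart := by
  intro a b φ
  exact IsBC.of_po (Y.cart φ) (M := Y.D.obj (op b)) (N := Y.D.obj (op a))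
    (fun r m => Algebra.smul_def r m) (fun r m => Algebra.smul_def r m) (isBC_self (rg Y.D φ))

variable {x : PrimeSpectrum (A.obj (op ⟨0⟩))} (c : CoverDatum k A x)

theorem rho_smul (a : NF) (r : A.obj (op a)) (m : c.Y.D.obj (op a)) :
    (c.ρ a).ρ (r • m) = (LinearMap.rTensor c.H.O (((Algebra.lsmul k (A.obj (op a)) (c.Y.D.obj (op a))) r :
      c.Y.D.obj (op a) →ₗ[A.obj (op a)] c.Y.D.obj (op a)).restrictScalars k)) ((c.ρ a).ρ m) := by
  rw [Algebra.smul_def, map_mul, c.ρ_lin]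
  generalize (c.ρ a).ρ m = z
  induction z using TensorProduct.induction_on with
  | zero => rw [mul_zero, map_zero]
  | add z w hz hw => rw [mul_add, hz, hw, map_add]
  | tmul d o =>
    rw [Algebra.TensorProduct.tmul_mul_tmul, one_mul, ← Algebra.smul_def]
    rfl

/-- the coaction of `H` on `D` -/
def yECo : ECo c.H (yPM c.Y) where
  co a := (c.ρ a).comod
  lin a r m := rho_smul c a r m
  nat φ m := c.ρ_nat φ m

/-! ### the identification with `B ⊗ D⟨n⟩` -/

variable {B : Type u} [CommRing B] [Algebra k B] {C : Type u} [CommRing C] [Algebra k C]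

variable (B) in
/-- `B ⊗ A⟨n⟩ ⊗_(A⟨n⟩) D⟨n⟩ → B ⊗ D⟨n⟩` -/
def theta (n : ℕ) : Nm k B (yPM c.Y) n →ₛₗ[lvD c B n] B ⊗[k] c.Y.D.obj (op ⟨n⟩) :=
  BC.lift (σ := lvD c B n) (τ := (lvD c B n).comp (inc k A B n)) rfl
    { toFun := fun d => (1 : B) ⊗ₜ[k] (show c.Y.D.obj (op ⟨n⟩) from d)
      map_add' := fun d d' => TensorProduct.tmul_add _ _ _
      map_smul' := fun r d => by
        change (1 : B) ⊗ₜ[k] (r • (show c.Y.D.obj (op ⟨n⟩) from d)) = (Algebra.TensorProduct.map (AlgHom.id k B)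
          (IsScalarTower.toAlgHom k (A.obj (op ⟨n⟩)) (c.Y.D.obj (op ⟨n⟩)))) (1 ⊗ₜ r) *
            ((1 : B) ⊗ₜ[k] (show c.Y.D.obj (op ⟨n⟩) from d))
        rw [Algebra.TensorProduct.map_tmul, Algebra.TensorProduct.tmul_mul_tmul, map_one, mul_one, Algebra.smul_def]
        rfl }

theorem theta_bc (n : ℕ) (d : c.Y.D.obj (op ⟨n⟩)) :
    theta c B n (bc (inc k A B n) (show (yPM c.Y).obj ⟨n⟩ from d)) = (1 : B) ⊗ₜ[k] d :=
  BC.lift_bc _ _ _

theorem theta_can (n : ℕ) (i : Fin (n + 1)) (z : BC (xp k A B n i) ((yPM c.Y).obj ⟨0⟩)) :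
    theta c B n (can k B (yPM_cart c.Y) n i z) = vtxD c B n i z := by
  induction z using BC.ind with
  | h0 => simp only [map_zero]; exact (map_zero (vtxD c B n i)).symm
  | h1 r d =>
    rw [map_smul, LinearMap.map_smulₛₗ, can_bc]
    refine Eq.trans ?_ ((vtxD c B n i).map_smulₛₗ r (bc _ d)).symm
    congr 1
  | h2 x y hx hy =>
    rw [map_add, map_add, hx, hy]
    exact (map_add (vtxD c B n i) x y).symm

theorem theta_beta (n : ℕ) (d : c.Y.D.obj (op ⟨n⟩)) (b : B) :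
    theta c B n (beta k B (yPM c.Y) n ((show (yPM c.Y).obj ⟨n⟩ from d) ⊗ₜ[k] b)) = b ⊗ₜ[k] d := by
  rw [beta_tmul, LinearMap.map_smulₛₗ, theta_bc]
  change (Algebra.TensorProduct.map (AlgHom.id k B)
          (IsScalarTower.toAlgHom k (A.obj (op ⟨n⟩)) (c.Y.D.obj (op ⟨n⟩)))) (b ⊗ₜ 1) * _ = _
  rw [Algebra.TensorProduct.map_tmul, Algebra.TensorProduct.tmul_mul_tmul, map_one, one_mul, mul_one]
  rfl

theorem theta_beta' (n : ℕ) (w : c.Y.D.obj (op ⟨n⟩) ⊗[k] B) :
    theta c B n (beta k B (yPM c.Y) n w) = TensorProduct.comm k _ _ w := by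
  induction w using TensorProduct.induction_on with
  | zero => rw [map_zero]; exact (congrArg (theta c B n) (map_zero (beta k B (yPM c.Y) n))).trans (map_zero _)
  | add x y hx hy =>
    rw [map_add, ← hx, ← hy]
    exact (congrArg (theta c B n) (map_add (beta k B (yPM c.Y) n) x y)).trans (map_add _ _ _)
  | tmul d b => exact theta_beta c n d b

theorem beta_surjective (M : PM.{u} A) (n : ℕ) : Function.Surjective (beta k B M n) := by
  intro z
  induction z using BC.ind with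
  | h0 => exact ⟨0, map_zero _⟩
  | h2 x y hx hy =>
    obtain ⟨v, rfl⟩ := hx
    obtain ⟨w, rfl⟩ := hy
    exact ⟨v + w, map_add _ _ _⟩
  | h1 r d =>
    induction r using TensorProduct.induction_on with
    | zero => exact ⟨0, by rw [map_zero, zero_smul]⟩
    | add x y hx hy =>
      obtain ⟨v, hv⟩ := hx
      obtain ⟨w, hw⟩ := hy
      exact ⟨v + w, by rw [map_add, hv, hw, add_smul]⟩
    | tmul b a =>
      refine ⟨(a • d) ⊗ₜ b, ?_⟩
      rw [beta_tmul, LinearMap.map_smulₛₗ, smul_smul, inb_apply, inc_apply, Algebra.TensorProduct.tmul_mul_tmul,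
        mul_one, one_mul]

theorem theta_injective (n : ℕ) : Function.Injective (theta c B n) := by
  refine (injective_iff_map_eq_zero (theta c B n)).mpr fun z hz => ?_
  obtain ⟨w, rfl⟩ := beta_surjective (yPM c.Y) n z
  have h1 := (theta_beta' c n w).symm.trans hz
  have h2 : (w : c.Y.D.obj (op ⟨n⟩) ⊗[k] B) = 0 :=
    (TensorProduct.comm k (c.Y.D.obj (op ⟨n⟩)) B).injective (h1.trans (map_zero _).symm)
  exact (congrArg (beta k B (yPM c.Y) n) h2).trans (map_zero _)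

theorem vtxD_injective (n : ℕ) (i : Fin (n + 1)) : Function.Injective (vtxD c B n i) := by
  intro z z' h
  have h1 := (theta_can c n i z).trans (h.trans (theta_can c n i z').symm)
  exact (can k B (yPM_cart c.Y) n i).injective (theta_injective c n h1)

theorem vtxD_bc (n : ℕ) (i : Fin (n + 1)) (d : c.Y.D.obj (op ⟨0⟩)) :
    vtxD c B n i (bc _ d) = 1 ⊗ₜ rg c.Y.D (pt ⟨n⟩ i) d := BC.lift_bc _ _ _

theorem vtxD_mul (n : ℕ) (i : Fin (n + 1)) (z z' : BC (xp k A B n i) (c.Y.D.obj (op ⟨0⟩))) :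
    vtxD c B n i (z * z') = vtxD c B n i z * vtxD c B n i z' := by
  induction z using BC.ind with
  | h0 => rw [zero_mul, map_zero, zero_mul]
  | h2 a b ha hb => rw [add_mul, map_add, map_add, ha, hb, add_mul]
  | h1 r a =>
    induction z' using BC.ind with
    | h0 => rw [mul_zero, map_zero, mul_zero]
    | h2 a b ha hb => rw [mul_add, map_add, map_add, ha, hb, mul_add]
    | h1 s b =>
      rw [smul_mul_smul_comm, ← BC.bc_mul, LinearMap.map_smulₛₗ, LinearMap.map_smulₛₗ, LinearMap.map_smulₛₗ, vtxD_bc,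
        vtxD_bc, vtxD_bc, map_mul, smul_mul_smul_comm, Algebra.TensorProduct.tmul_mul_tmul, mul_one, map_mul]

theorem vtxD_one (n : ℕ) (i : Fin (n + 1)) : vtxD c B n i (1 : BC (xp k A B n i) (c.Y.D.obj (op ⟨0⟩))) = 1 := by
  rw [← BC.bc_one, vtxD_bc, map_one]
  rfl

/-! ### the action of a point of `H` on `B ⊗ D⟨n⟩` -/

variable (B) in
/-- the action of a point `h : O(H) → B` on `D⟨n⟩` as an algebra map -/
def hAlg (n : ℕ) (h : c.H.O →ₐ[k] B) : c.Y.D.obj (op ⟨n⟩) →ₐ[k] B ⊗[k] c.Y.D.obj (op ⟨n⟩) :=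
  (Algebra.TensorProduct.comm k (c.Y.D.obj (op ⟨n⟩)) B).toAlgHom.comp
    ((Algebra.TensorProduct.map (AlgHom.id k (c.Y.D.obj (op ⟨n⟩))) h).comp (c.ρ ⟨n⟩).ρ)

theorem hAlg_apply (n : ℕ) (h : c.H.O →ₐ[k] B) (d : c.Y.D.obj (op ⟨n⟩)) : hAlg c B n h d = hAct c B n h d := rfl

variable (B) in
/-- the action of a point of `H` on `B ⊗ D⟨n⟩` -/
def HD (n : ℕ) (h : c.H.O →ₐ[k] B) : B ⊗[k] c.Y.D.obj (op ⟨n⟩) →ₐ[B] B ⊗[k] c.Y.D.obj (op ⟨n⟩) :=
  Algebra.TensorProduct.lift (Algebra.ofId B _) (hAlg c B n h) (fun _ _ => Commute.all _ _)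

theorem HD_tmul (n : ℕ) (h : c.H.O →ₐ[k] B) (b : B) (d : c.Y.D.obj (op ⟨n⟩)) :
    HD c B n h (b ⊗ₜ d) = b • hAct c B n h d := by
  change algebraMap B _ b * hAlg c B n h d = _
  rw [← Algebra.smul_def]
  rfl

theorem HD_lvD (n : ℕ) (h : c.H.O →ₐ[k] B) (r : B ⊗[k] A.obj (op ⟨n⟩)) :
    HD c B n h (lvD c B n r) = lvD c B n r := by
  induction r using TensorProduct.induction_on with
  | zero => rw [map_zero, map_zero]
  | add x y hx hy => rw [map_add, map_add, hx, hy]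
  | tmul b a =>
    have h1 : lvD c B n (b ⊗ₜ a) = b ⊗ₜ algebraMap (A.obj (op ⟨n⟩)) (c.Y.D.obj (op ⟨n⟩)) a := rfl
    rw [h1, HD_tmul]
    have h2 : hAct c B n h (algebraMap (A.obj (op ⟨n⟩)) (c.Y.D.obj (op ⟨n⟩)) a) =
        1 ⊗ₜ algebraMap (A.obj (op ⟨n⟩)) (c.Y.D.obj (op ⟨n⟩)) a := by
      change TensorProduct.comm k _ _ (h.toLinearMap.lTensor _ ((c.ρ ⟨n⟩).ρ _)) = _
      rw [c.ρ_lin, LinearMap.lTensor_tmul, TensorProduct.comm_tmul]
      congr 1
      exact map_one h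
    rw [h2, TensorProduct.smul_tmul', smul_eq_mul, mul_one]

theorem theta_T (n : ℕ) (h : (pts c.H).pt B) (z : Nm k B (yPM c.Y) n) :
    theta c B n (T (yECo c) n h z) = HD c B n h.ofConv (theta c B n z) := by
  induction z using BC.ind with
  | h0 => rw [map_zero, map_zero, map_zero]
  | h2 x y hx hy => rw [map_add, map_add, map_add, map_add, hx, hy]
  | h1 r d =>
    rw [map_smul, LinearMap.map_smulₛₗ, LinearMap.map_smulₛₗ]
    have h0 : T (yECo c) n h (bc (inc k A B n) d) = beta k B (yPM c.Y) n (ev1 h ((c.ρ ⟨n⟩).ρ d)) :=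
      T_bc (yECo c) n h d
    have h1 : theta c B n (T (yECo c) n h (bc (inc k A B n) d)) = hAct c B n h.ofConv d :=
      (congrArg (theta c B n) h0).trans (theta_beta' c n _)
    refine (congrArg (fun w => lvD c B n r • w) h1).trans ?_
    rw [smul_eq_mul, smul_eq_mul, map_mul, HD_lvD]
    congr 1
    refine Eq.trans ?_ (congrArg (HD c B n h.ofConv) (theta_bc c n d).symm)
    exact ((HD_tmul c n h.ofConv 1 d).trans (one_smul _ _)).symm

variable (B) in
/-- **the arrows on `D`** -/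
def etaL (n : ℕ) (i j : Fin (n + 1)) (h : (pts c.H).pt B) :
    BC (xp k A B n i) (c.Y.D.obj (op ⟨0⟩)) ≃ₗ[B ⊗[k] A.obj (op ⟨n⟩)] BC (xp k A B n j) (c.Y.D.obj (op ⟨0⟩)) :=
  ar B (yECo c) (yPM_cart c.Y) n i j h

theorem vtxD_etaL (n : ℕ) (i j : Fin (n + 1)) (h : (pts c.H).pt B) (z : BC (xp k A B n i) (c.Y.D.obj (op ⟨0⟩))) :
    vtxD c B n j (etaL c B n i j h z) = HD c B n h.ofConv (vtxD c B n i z) := by
  refine (theta_can c n j (etaL c B n i j h z)).symm.trans ?_
  refine (congrArg (theta c B n) (can_ar (yECo c) (yPM_cart c.Y) n i j h z)).trans ?_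
  refine (theta_T c n h _).trans ?_
  exact congrArg (HD c B n h.ofConv) (theta_can c n i z)

variable (B) in
/-- **the arrows on `D`, as isomorphisms of algebras** -/
def etaD (n : ℕ) (i j : Fin (n + 1)) (h : (pts c.H).pt B) :
    BC (xp k A B n i) (c.Y.D.obj (op ⟨0⟩)) ≃ₐ[B ⊗[k] A.obj (op ⟨n⟩)] BC (xp k A B n j) (c.Y.D.obj (op ⟨0⟩)) :=
  AlgEquiv.ofLinearEquiv (etaL c B n i j h)
    (vtxD_injective c n j (by rw [vtxD_etaL, vtxD_one, vtxD_one, map_one]))
    (fun z z' => vtxD_injective c n j (by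
      rw [vtxD_etaL, vtxD_mul, map_mul, ← vtxD_etaL c n i j h z, ← vtxD_etaL c n i j h z', vtxD_mul]))

theorem etaD_apply (n : ℕ) (i j : Fin (n + 1)) (h : (pts c.H).pt B) (z : BC (xp k A B n i) (c.Y.D.obj (op ⟨0⟩))) :
    etaD c B n i j h z = etaL c B n i j h z := rfl

/-- the characterization -/
theorem vtxD_etaD (n : ℕ) (i j : Fin (n + 1)) (h : (pts c.H).pt B) (z : BC (xp k A B n i) (c.Y.D.obj (op ⟨0⟩))) :
    vtxD c B n j (etaD c B n i j h z) = HD c B n h.ofConv (vtxD c B n i z) := vtxD_etaL c n i j h z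

/-- the form of `EtaMatch` -/
theorem vtxD_etaD_bc (n : ℕ) (i j : Fin (n + 1)) (h : (pts c.H).pt B) (d : c.Y.D.obj (op ⟨0⟩)) :
    vtxD c B n j (etaD c B n i j h (bc _ d)) = hAct c B n h.ofConv (rg c.Y.D (pt ⟨n⟩ i) d) := by
  rw [vtxD_etaD, vtxD_bc, HD_tmul, one_smul]

theorem etaD_one (n : ℕ) (i : Fin (n + 1)) : etaD c B n i i 1 = AlgEquiv.refl := by
  refine AlgEquiv.ext fun z => ?_
  exact DFunLike.congr_fun (ar_one (B := B) (yECo c) (yPM_cart c.Y) n i) z

theorem etaD_comp (n : ℕ) (i j l : Fin (n + 1)) (h h' : (pts c.H).pt B) :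
    (etaD c B n i j h).trans (etaD c B n j l h') = etaD c B n i l (h' * h) := by
  refine AlgEquiv.ext fun z => ?_
  exact ar_comp_apply (yECo c) (yPM_cart c.Y) n i j l h h' z

theorem etaD_pull (f : B →ₐ[k] C) {m n : ℕ} (a : Fin (m + 1) → Fin (n + 1)) (i j : Fin (m + 1)) (h : (pts c.H).pt B) :
    K863.pullA (lv k A f a) (lv_xp k A f a i) (lv_xp k A f a j) (etaD c B m i j h) =
      etaD c C n (a i) (a j) ((pts c.H).map f h) := by
  refine AlgEquiv.ext fun z => ?_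
  exact DFunLike.congr_fun (ar_pull (yECo c) (yPM_cart c.Y) f a i j h) z

/-- the universal point of `H` -/
def upt (H : Gp k) : (pts H).pt H.O := toConv (AlgHom.id k H.O)

theorem map_upt {H : Gp k} (h : (pts H).pt B) : (pts H).map h.ofConv (upt H) = h := rfl

/-- every arrow is the pull-back of the universal arrow over `O(H) ⊗ A⟨1⟩` -/
theorem etaD_univ (n : ℕ) (i j : Fin (n + 1)) (h : (pts c.H).pt B) :
    K863.pullA (lv k A h.ofConv (![i, j] : Fin (1 + 1) → Fin (n + 1)))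
      (show _ = xp k A B n i from lv_xp k A h.ofConv ![i, j] 0) (show _ = xp k A B n j from lv_xp k A h.ofConv ![i, j] 1)
      (etaD c c.H.O 1 0 1 (upt c.H)) = etaD c B n i j h :=
  etaD_pull c h.ofConv (m := 1) (n := n) ![i, j] 0 1 (upt c.H)

/-- **`EtaMatch`** for every `Lev` on a groupoid whose arrows act on `D` by `etaD` -/
theorem etaMatch_of {P : PGpd.{u} (A.obj (op ⟨0⟩))} (L : Lev k A (pts c.H) P)
    (act : ∀ {R' : Type u} [CommRing R'] {y z : A.obj (op ⟨0⟩) →+* R'}, P.Hom y z →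
      BC y (c.Y.D.obj (op ⟨0⟩)) → BC z (c.Y.D.obj (op ⟨0⟩)))
    (h : ∀ (B : Type u) [CommRing B] [Algebra k B] (n : ℕ) (i j : Fin (n + 1)) (h : (pts c.H).pt B)
      (z : BC (xp k A B n i) (c.Y.D.obj (op ⟨0⟩))), act (L.ar B n i j h) z = etaD c B n i j h z) :
    EtaMatch c L act := by
  intro B _ _ _ n i j g d
  exact (congrArg (vtxD c B n j) (h B n i j g (bc _ d))).trans (vtxD_etaD_bc c n i j g d)

end Groth.Agent.ResProp.EF.K884.EtaD
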