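import Groth.Agent.ResProp.EF.K341.GrCo

/-!
# Naturality of the coaction on the graded pieces
-/

set_option autoImplicit false
set_option linter.style.haveILetI false
set_option linter.unusedSectionVars false

universe u

open TensorProduct MvPolynomial

namespace Groth.Agent.ResProp.EF.K884.GrNat

open Groth.Agent.ResProp.EF.K863 Groth.Agent.ResProp.EF.K341 K784.BC

section

variable {k : Type u} [CommRing k] {R : Type u} [CommRing R] [Algebra k R] {D : Type u} [CommRing D] [Algebra k D]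
  [Algebra R D] [IsScalarTower k R D] {R₁ : Type u} [CommRing R₁] [Algebra k R₁] {D₁ : Type u} [CommRing D₁]
  [Algebra k D₁] [Algebra R₁ D₁] [IsScalarTower k R₁ D₁]
  {ι : Type*} [Fintype ι] [DecidableEq ι] {ω : ι → Ω[D⁄R]} {ω₁ : ι → Ω[D₁⁄R₁]}
  {O : Type u} [CommRing O] [HopfAlgebra k O] {co : K83.CoAlg k O D} {co₁ : K83.CoAlg k O D₁} {C : Matrix ι ι O}

attribute [local instance] algT

/-- `R ⊗ S → R₁ ⊗ S` -/
def xO (S : Type u) [CommRing S] [Algebra k S] (x : R →ₐ[k] R₁) : R ⊗[k] S →+* R₁ ⊗[k] S :=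
  (Algebra.TensorProduct.map x (AlgHom.id k S)).toRingHom

@[simp] theorem xO_tmul (S : Type u) [CommRing S] [Algebra k S] (x : R →ₐ[k] R₁) (r : R) (s : S) :
    xO S x (r ⊗ₜ s) = x r ⊗ₜ s := rfl

variable (x : R →ₐ[k] R₁) (η : D →ₐ[k] D₁)

theorem sqO (S : Type u) [CommRing S] [Algebra k S] (sq : Sq R D (x : R →+* R₁) (η : D →+* D₁)) :
    Sq (R ⊗[k] S) (D ⊗[k] S) (xO S x) (xO S η) := ⟨fun r => by
  induction r with
  | zero => rw [map_zero, map_zero, map_zero, map_zero]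
  | add a b ha hb => rw [map_add, map_add, map_add, map_add, ha, hb]
  | tmul a s =>
    have h1 : η (algebraMap R D a) = algebraMap R₁ D₁ (x a) := sq.alg a
    rw [algT_tmul, xO_tmul, xO_tmul, algT_tmul, h1]⟩

variable {x η}

theorem mO (S : Type u) [CommRing S] [Algebra k S] (p : MHom ω ω₁ (x : R →+* R₁) (η : D →+* D₁) 1) :
    MHom (ωT (k := k) ω S) (ωT (k := k) ω₁ S) (xO S x) (xO S η) 1 where
  sq := sqO x η S p.sq
  rel i := by
    have h := (sqO x η S p.sq).comp (sqI k R D S)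
    rw [ωT, ← om_comp (sqO x η S p.sq) (sqI k R D S) h]
    have h2 := (mI (k := k) ω₁ S).comp p
    refine (om_congr _ h2.sq (fun d => rfl) _).trans ((h2.rel i).trans (Finset.sum_congr rfl fun j _ => ?_))
    rw [Matrix.one_mul, Matrix.map_one _ (map_zero _) (map_one _)]

variable (p : MHom ω ω₁ (x : R →+* R₁) (η : D →+* D₁) 1)
  {m : Model R D (ι → D) (rhoI ω)} {m₁ : Model R₁ D₁ (ι → D₁) (rhoI ω₁)} {n : ℕ}

theorem one_mat {A : Type*} [CommRing A] {B : Type*} [CommRing B] (f : B →+* A) (i j : ι) :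
    (1 : Matrix ι ι A) i j = ∑ l, (1 : Matrix ι ι A) i l * f ((1 : Matrix ι ι B) l j) := one_apply_comp f i j

theorem gr_mI_p (S : Type u) [CommRing S] [Algebra k S]
    (mS : Model (R ⊗[k] S) (D ⊗[k] S) (ι → D ⊗[k] S) (rhoI (ωT ω S)))
    (mS₁ : Model (R₁ ⊗[k] S) (D₁ ⊗[k] S) (ι → D₁ ⊗[k] S) (rhoI (ωT ω₁ S))) (z : m.gr n) :
    (mO S p).gr mS mS₁ n ((mI (k := k) ω S).gr m mS n z) = (mI (k := k) ω₁ S).gr m₁ mS₁ n (p.gr m m₁ n z) := by
  have e := (mI (k := k) ω₁ S).comp p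
  refine ((mO S p).gr_comp (mI (k := k) ω S) e (RingHom.ext fun r => rfl) (fun d => rfl) (fun i j => ?_)
    m mS mS₁ n z).symm.trans ?_
  · rw [Matrix.one_mul, Matrix.map_one _ (map_zero _) (map_one _)]
    exact one_mat _ i j
  · exact (mI (k := k) ω₁ S).gr_comp p e rfl (fun _ => rfl) (fun i j => Matrix.mul_apply) m m₁ mS₁ n z

theorem gr_mρ_p (h : CoDat ω co C) (h₁ : CoDat ω₁ co₁ C) (hρ : ∀ d, co₁.ρ (η d) = xO O η (co.ρ d))
    (mS : Model (R ⊗[k] O) (D ⊗[k] O) (ι → D ⊗[k] O) (rhoI (ωT ω O)))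
    (mS₁ : Model (R₁ ⊗[k] O) (D₁ ⊗[k] O) (ι → D₁ ⊗[k] O) (rhoI (ωT ω₁ O))) (z : m.gr n) :
    (mO O p).gr mS mS₁ n (h.mρ.gr m mS n z) = h₁.mρ.gr m₁ mS₁ n (p.gr m m₁ n z) := by
  have e := h₁.mρ.comp p
  refine ((mO O p).gr_comp h.mρ e (RingHom.ext fun r => rfl) (fun d => hρ d) (fun i j => ?_)
    m mS mS₁ n z).symm.trans ?_
  · rw [Matrix.map_one _ (map_zero _) (map_one _), Matrix.mul_one]
    rw [Finset.sum_eq_single i]
    · rw [Matrix.one_apply_eq, one_mul]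
      change (1 : D₁) ⊗ₜ[k] C i j = η 1 ⊗ₜ[k] C i j
      rw [map_one]
    · intro l _ hl
      rw [Matrix.one_apply_ne (Ne.symm hl), zero_mul]
    · intro hi; exact absurd (Finset.mem_univ i) hi
  · exact h₁.mρ.gr_comp p e rfl (fun _ => rfl) (fun i j => Matrix.mul_apply) m m₁ mS₁ n z

variable {N : Type u} [AddCommGroup N] [Module k N] [Module D N] [IsScalarTower k D N]
  {N₁ : Type u} [AddCommGroup N₁] [Module k N₁] [Module D₁ N₁] [IsScalarTower k D₁ N₁]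
  (eN : N ≃+ m.gr n) (eN₁ : N₁ ≃+ m₁.gr n) (f : N →ₗ[k] N₁) (hf : ∀ z, eN₁ (f z) = p.gr m m₁ n (eN z))

include hf in
theorem can_rTensor (S : Type u) [CommRing S] [Algebra k S]
    {mS : Model (R ⊗[k] S) (D ⊗[k] S) (ι → D ⊗[k] S) (rhoI (ωT ω S))}
    {mS₁ : Model (R₁ ⊗[k] S) (D₁ ⊗[k] S) (ι → D₁ ⊗[k] S) (rhoI (ωT ω₁ S))}
    (can : N ⊗[k] S →+ mS.gr n) (can_t : ∀ z s, can (z ⊗ₜ s) = ((1 : D) ⊗ₜ[k] s) • (mI (k := k) ω S).gr m mS n (eN z))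
    (can₁ : N₁ ⊗[k] S →+ mS₁.gr n)
    (can₁_t : ∀ z s, can₁ (z ⊗ₜ s) = ((1 : D₁) ⊗ₜ[k] s) • (mI (k := k) ω₁ S).gr m₁ mS₁ n (eN₁ z)) (w : N ⊗[k] S) :
    can₁ (f.rTensor S w) = (mO S p).gr mS mS₁ n (can w) := by
  induction w with
  | zero => rw [map_zero, map_zero, map_zero, map_zero]
  | add a b ha hb => rw [map_add, map_add, map_add, map_add, ha, hb]
  | tmul z s =>
    rw [LinearMap.rTensor_tmul, can₁_t, can_t, hf]
    refine Eq.trans ?_ (MHom.gr_smul (mO S p) mS mS₁ n _ _).symm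
    rw [gr_mI_p p S mS mS₁, xO_tmul, map_one]

include hf in
/-- **naturality of the coaction** -/
theorem coact_nat (h : CoDat ω co C) (h₁ : CoDat ω₁ co₁ C) (hρ : ∀ d, co₁.ρ (η d) = xO O η (co.ρ d))
    {mS : Model (R ⊗[k] O) (D ⊗[k] O) (ι → D ⊗[k] O) (rhoI (ωT ω O))}
    {mS₁ : Model (R₁ ⊗[k] O) (D₁ ⊗[k] O) (ι → D₁ ⊗[k] O) (rhoI (ωT ω₁ O))}
    (can : N ⊗[k] O →+ mS.gr n) (can_t : ∀ z s, can (z ⊗ₜ s) = ((1 : D) ⊗ₜ[k] s) • (mI (k := k) ω O).gr m mS n (eN z))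
    (can₁ : N₁ ⊗[k] O →+ mS₁.gr n) (hcan₁ : Function.Injective can₁)
    (can₁_t : ∀ z s, can₁ (z ⊗ₜ s) = ((1 : D₁) ⊗ₜ[k] s) • (mI (k := k) ω₁ O).gr m₁ mS₁ n (eN₁ z))
    (co' : HopfRep.Comod k O N) (hco : ∀ z, can (co'.coact z) = h.mρ.gr m mS n (eN z))
    (co₁' : HopfRep.Comod k O N₁) (hco₁ : ∀ z, can₁ (co₁'.coact z) = h₁.mρ.gr m₁ mS₁ n (eN₁ z)) (z : N) :
    co₁'.coact (f z) = f.rTensor O (co'.coact z) := by
  apply hcan₁
  rw [hco₁, can_rTensor p eN eN₁ f hf O can can_t can₁ can₁_t, hco, hf, gr_mρ_p p h h₁ hρ mS mS₁]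

end

end Groth.Agent.ResProp.EF.K884.GrNat
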