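import Groth.Agent.ResProp.EF.K884.MatPt

/-!
# `Lev` from one universal arrow

`tripGpd D V κ` : the groupoid of triples `(η, η_V, M)`; `trLev` : the `Lev` on it given by a cover datum and two matrix
comodules; `levOf` : for a groupoid of points `P` with a faithful functor to a groupoid `P₀` with a `Lev L₀`, one arrow
`univ` of `P` over `O(H) ⊗ A⟨1⟩` lying over the universal arrow of `L₀` gives `Lev k A (pts H) P` over `L₀`.
-/

set_option autoImplicit false
set_option linter.dupNamespace false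

universe u v

open CategoryTheory Opposite TensorProduct

noncomputable section

namespace Groth.Agent.ResProp.EF.K884.LevGen

open Groth.Agent.ResProp.EF.K980 K784.BC K784.PM K741.RP EF56
open Groth.Agent.ResProp.EF.Arch Groth.Agent.ResProp.EF.Grp
open Groth.Agent.ResProp.EF.K208 WithConv
open Groth.Agent.ResProp.EF.K884.LevPM Groth.Agent.ResProp.EF.K884.EtaD Groth.Agent.ResProp.EF.K884.MatPt

/-! ### `Lev` from one universal arrow -/

section Gen

variable {k : Type u} [CommRing k] {A : NFᵒᵖ ⥤ CommRingCat.{u}} [GRF k A] {H : Gp k}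
  {P P₀ : PGpd.{u} (A.obj (op ⟨0⟩))}

/-- the pull-back of the universal arrow -/
def arOf (univ : P.Hom (xp k A H.O 1 0) (xp k A H.O 1 1)) (B : Type u) [CommRing B] [Algebra k B] (n : ℕ)
    (i j : Fin (n + 1)) (h : (pts H).pt B) : P.Hom (xp k A B n i) (xp k A B n j) :=
  P.pull (lv k A h.ofConv (![i, j] : Fin (1 + 1) → Fin (n + 1)))
    (show _ = xp k A B n i from lv_xp k A h.ofConv ![i, j] 0) (show _ = xp k A B n j from lv_xp k A h.ofConv ![i, j] 1)
    univ

theorem lv_lv {B B' B'' : Type u} [CommRing B] [Algebra k B] [CommRing B'] [Algebra k B'] [CommRing B'']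
    [Algebra k B''] (f : B →ₐ[k] B') (g : B' →ₐ[k] B'') {l m n : ℕ} (a : Fin (l + 1) → Fin (m + 1))
    (b : Fin (m + 1) → Fin (n + 1)) : (lv k A g b).comp (lv k A f a) = lv k A (g.comp f) (fun i => b (a i)) := by
  refine RingHom.ext fun z => ?_
  change Algebra.TensorProduct.map g (rgk k A (vmap b)) (Algebra.TensorProduct.map f (rgk k A (vmap a)) z) =
    Algebra.TensorProduct.map (g.comp f) (rgk k A (vmap fun i => b (a i))) z
  induction z using TensorProduct.induction_on with
  | zero => simp only [map_zero]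
  | add x y hx hy => simp only [map_add, hx, hy]
  | tmul c d =>
    rw [Algebra.TensorProduct.map_tmul, Algebra.TensorProduct.map_tmul, Algebra.TensorProduct.map_tmul]
    congr 1
    change rg A (vmap b) (rg A (vmap a) d) = rg A (vmap fun i => b (a i)) d
    rw [← rg_comp_apply]
    rfl

theorem pull_congr (P : PGpd.{u} (A.obj (op ⟨0⟩))) {R' R'' : Type u} [CommRing R'] [CommRing R'']
    {x y : A.obj (op ⟨0⟩) →+* R'} {x' y' : A.obj (op ⟨0⟩) →+* R''} {f g : R' →+* R''} (h : f = g)
    (hx : f.comp x = x') (hy : f.comp y = y') (hx' : g.comp x = x') (hy' : g.comp y = y') (a : P.Hom x y) :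
    P.pull f hx hy a = P.pull g hx' hy' a := by
  subst h
  rfl

theorem arOf_pull (univ : P.Hom (xp k A H.O 1 0) (xp k A H.O 1 1)) {B B' : Type u} [CommRing B] [Algebra k B]
    [CommRing B'] [Algebra k B'] (f : B →ₐ[k] B') {m n : ℕ} (a : Fin (m + 1) → Fin (n + 1)) (i j : Fin (m + 1))
    (h : (pts H).pt B) : P.pull (lv k A f a) (lv_xp k A f a i) (lv_xp k A f a j) (arOf univ B m i j h) =
      arOf univ B' n (a i) (a j) ((pts H).map f h) := by
  have h1 := lv_lv (A := A) h.ofConv f (![i, j] : Fin (1 + 1) → Fin (m + 1)) a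
  have h2 : (fun t => a ((![i, j] : Fin (1 + 1) → Fin (m + 1)) t)) = (![a i, a j] : Fin (1 + 1) → Fin (n + 1)) := by
    funext t
    refine Fin.cases rfl (fun s => ?_) t
    refine Fin.cases rfl (fun r => r.elim0) s
  rw [h2] at h1
  unfold arOf
  rw [P.pull_pull _ _ _ _ _ _ (by rw [h1]; exact lv_xp k A (f.comp h.ofConv) ![a i, a j] 0)
    (by rw [h1]; exact lv_xp k A (f.comp h.ofConv) ![a i, a j] 1)]
  exact pull_congr P h1 _ _ _ _ univ

variable (F : PGpd.Fun P P₀) (L₀ : Lev k A (pts H) P₀) {univ : P.Hom (xp k A H.O 1 0) (xp k A H.O 1 1)}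
  (hu : F.app univ = L₀.ar H.O 1 0 1 (upt H))

include hu in
theorem app_arOf (B : Type u) [CommRing B] [Algebra k B] (n : ℕ) (i j : Fin (n + 1)) (h : (pts H).pt B) :
    F.app (arOf univ B n i j h) = L₀.ar B n i j h := by
  unfold arOf
  rw [F.app_pull, hu]
  exact L₀.ar_pull h.ofConv (m := 1) (n := n) ![i, j] 0 1 (upt H)

/-- **`Lev` from one universal arrow** -/
def levOf (hF : ∀ {R' : Type u} [CommRing R'] {x y : A.obj (op ⟨0⟩) →+* R'} (a b : P.Hom x y), F.app a = F.app b → a = b) :
    Lev k A (pts H) P where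
  ar B _ _ n i j h := arOf univ B n i j h
  ar_one B _ _ n i := hF _ _ (by rw [app_arOf F L₀ hu, L₀.ar_one, F.app_id])
  ar_comp B _ _ n i j l h h' := hF _ _ (by
    rw [F.app_comp, app_arOf F L₀ hu, app_arOf F L₀ hu, app_arOf F L₀ hu, L₀.ar_comp])
  ar_pull f _ _ a i j h := arOf_pull univ f a i j h

end Gen

end Groth.Agent.ResProp.EF.K884.LevGen
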