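import Groth.Agent.ResProp.EF.K980.Nodes
import Groth.Agent.ResProp.EF.K172.GrBC
import Groth.Agent.ResProp.EF.K649.Pts

/-!
# The arrows of `Lev` (K980/Nodes.lean) on a cartesian module with an `H`-coaction

For `M : PM A`, `hM : M.Cart`, `e : ECo H M`:
`ar e hM B n i j h : BC (xp k A B n i) (M.obj ⟨0⟩) ≃ₗ[B ⊗ A⟨n⟩] BC (xp k A B n j) (M.obj ⟨0⟩)` with `ar_one`, `ar_comp`,
`ar_pull` (all `k`-algebras `B`, flat or not), `can_ar` (characterization through `B ⊗ M⟨n⟩`), naturality in `M` (`map_ar`) and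
for pairings (`ar_bil`).
-/

set_option autoImplicit false
set_option linter.dupNamespace false

universe u

open CategoryTheory Opposite TensorProduct

noncomputable section

namespace Groth.Agent.ResProp.EF.K884.LevPM

open Groth.Agent.ResProp.EF.K980 K784.BC K784.PM K741.RP EF56
open Groth.Agent.ResProp.EF.Arch Groth.Agent.ResProp.EF.Grp
open Groth.Agent.ResProp.EF.K208 Groth.Agent.ResProp.EF.K649 Groth.Agent.ResProp.EF.K172 WithConv

variable (k : Type u) [CommRing k] (A : NFᵒᵖ ⥤ CommRingCat.{u}) [GRF k A]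

/-- `A⟨n⟩ → B ⊗ A⟨n⟩` -/
def inc (B : Type u) [CommRing B] [Algebra k B] (n : ℕ) : A.obj (op ⟨n⟩) →+* B ⊗[k] A.obj (op ⟨n⟩) :=
  (Algebra.TensorProduct.includeRight (R := k) (A := B) (B := A.obj (op ⟨n⟩))).toRingHom

theorem inc_apply (B : Type u) [CommRing B] [Algebra k B] (n : ℕ) (r : A.obj (op ⟨n⟩)) :
    inc k A B n r = 1 ⊗ₜ r := rfl

/-- `B → B ⊗ A⟨n⟩` -/
def inb (B : Type u) [CommRing B] [Algebra k B] (n : ℕ) : B →+* B ⊗[k] A.obj (op ⟨n⟩) :=
  Algebra.TensorProduct.includeLeftRingHom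

theorem inb_apply (B : Type u) [CommRing B] [Algebra k B] (n : ℕ) (b : B) :
    inb k A B n b = b ⊗ₜ 1 := rfl

theorem inb_algebraMap (B : Type u) [CommRing B] [Algebra k B] (n : ℕ) (r : k) :
    inb k A B n (algebraMap k B r) = inc k A B n (algebraMap k (A.obj (op ⟨n⟩)) r) := by
  rw [inb_apply, inc_apply, Algebra.algebraMap_eq_smul_one, Algebra.algebraMap_eq_smul_one, TensorProduct.smul_tmul]

theorem xp_eq (B : Type u) [CommRing B] [Algebra k B] (n : ℕ) (i : Fin (n + 1)) :
    (inc k A B n).comp (rg A (pt ⟨n⟩ i)) = xp k A B n i := rfl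

variable {k A}

variable {B : Type u} [CommRing B] [Algebra k B] {C : Type u} [CommRing C] [Algebra k C]
  {D : Type u} [CommRing D] [Algebra k D]

theorem lv_inc (f : B →ₐ[k] C) {m n : ℕ} (a : Fin (m + 1) → Fin (n + 1)) (r : A.obj (op ⟨m⟩)) :
    lv k A f a (inc k A B m r) = inc k A C n (rg A (vmap a) r) := by
  show Algebra.TensorProduct.map f (rgk k A (vmap a)) (1 ⊗ₜ r) = 1 ⊗ₜ rg A (vmap a) r
  rw [Algebra.TensorProduct.map_tmul, map_one]
  rfl

theorem lv_inb (f : B →ₐ[k] C) {m n : ℕ} (a : Fin (m + 1) → Fin (n + 1)) (b : B) :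
    lv k A f a (inb k A B m b) = inb k A C n (f b) := by
  show Algebra.TensorProduct.map f (rgk k A (vmap a)) (b ⊗ₜ 1) = f b ⊗ₜ 1
  rw [Algebra.TensorProduct.map_tmul, map_one]

section PM

variable (M : PM.{u} A)

variable (k B) in
/-- the module at a level -/
abbrev Nm (n : ℕ) : Type u := BC (inc k A B n) (M.obj ⟨n⟩)

/-- restriction -/
def rm (f : B →ₐ[k] C) {m n : ℕ} (a : Fin (m + 1) → Fin (n + 1)) : Nm k B M m →ₛₗ[lv k A f a] Nm k C M n :=
  BC.lift (σ := lv k A f a) (τ := (lv k A f a).comp (inc k A B m)) rfl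
    { toFun := fun v => bc (inc k A C n) (M.map (vmap a) v)
      map_add' := fun v v' => by rw [map_add, map_add]
      map_smul' := fun r v => by
        rw [M.map_smul, LinearMap.map_smulₛₗ, ← lv_inc f a]
        rfl }

@[simp] theorem rm_bc (f : B →ₐ[k] C) {m n : ℕ} (a : Fin (m + 1) → Fin (n + 1)) (v : M.obj ⟨m⟩) :
    rm M f a (bc (inc k A B m) v) = bc (inc k A C n) (M.map (vmap a) v) :=
  BC.lift_bc _ _ v

variable (k B) in
/-- `M ⊗ B → B ⊗ M` -/
def beta (n : ℕ) : M.obj ⟨n⟩ ⊗[k] B →+ Nm k B M n :=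
  TensorProduct.liftAddHom
    { toFun := fun m =>
        { toFun := fun c => inb k A B n c • bc (inc k A B n) m
          map_zero' := by rw [map_zero, zero_smul]
          map_add' := fun c c' => by rw [map_add, add_smul] }
      map_zero' := by ext c; show inb k A B n c • bc (inc k A B n) (0 : M.obj ⟨n⟩) = 0; rw [map_zero, smul_zero]
      map_add' := fun m m' => by
        ext c
        show inb k A B n c • bc (inc k A B n) (m + m') =
          inb k A B n c • bc (inc k A B n) m + inb k A B n c • bc (inc k A B n) m'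
        rw [map_add, smul_add] }
    (fun r m c => by
      show inb k A B n c • bc (inc k A B n) (r • m) = inb k A B n (r • c) • bc (inc k A B n) m
      rw [pmk_smul, LinearMap.map_smulₛₗ, Algebra.smul_def, map_mul, inb_algebraMap, mul_smul, smul_smul, smul_smul,
        mul_comm])

@[simp] theorem beta_tmul (n : ℕ) (m : M.obj ⟨n⟩) (c : B) :
    beta k B M n (m ⊗ₜ[k] c) = inb k A B n c • bc (inc k A B n) m := rfl

theorem beta_rmul (n : ℕ) (c : B) (z : M.obj ⟨n⟩ ⊗[k] B) :
    beta k B M n (rmul (M.obj ⟨n⟩) c z) = inb k A B n c • beta k B M n z := by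
  induction z using TensorProduct.induction_on with
  | zero => rw [map_zero, map_zero, smul_zero]
  | add x y hx hy => rw [map_add, map_add, map_add, smul_add, hx, hy]
  | tmul m d => rw [rmul_tmul, beta_tmul, beta_tmul, smul_smul, ← map_mul, mul_comm d c]

theorem beta_mulk (n : ℕ) (r : A.obj (op ⟨n⟩)) (z : M.obj ⟨n⟩ ⊗[k] B) :
    beta k B M n ((mulk (k := k) M ⟨n⟩ r).rTensor B z) = inc k A B n r • beta k B M n z := by
  induction z using TensorProduct.induction_on with
  | zero => rw [map_zero, map_zero, smul_zero]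
  | add x y hx hy => rw [map_add, map_add, map_add, smul_add, hx, hy]
  | tmul m d =>
    rw [LinearMap.rTensor_tmul, beta_tmul, beta_tmul]
    show inb k A B n d • bc (inc k A B n) (r • m) = inc k A B n r • inb k A B n d • bc (inc k A B n) m
    rw [LinearMap.map_smulₛₗ, smul_smul, smul_smul, mul_comm]

theorem beta_map (f : B →ₐ[k] C) {m n : ℕ} (a : Fin (m + 1) → Fin (n + 1)) (z : M.obj ⟨m⟩ ⊗[k] B) :
    beta k C M n (TensorProduct.map (mapk (k := k) M (vmap a)) f.toLinearMap z) = rm M f a (beta k B M m z) := by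
  induction z using TensorProduct.induction_on with
  | zero => simp only [map_zero]
  | add x y hx hy => rw [map_add, map_add, map_add, map_add, hx, hy]
  | tmul m d =>
    rw [TensorProduct.map_tmul, beta_tmul, beta_tmul, LinearMap.map_smulₛₗ, rm_bc, lv_inb]
    rfl

theorem bc_eq_beta (n : ℕ) (m : M.obj ⟨n⟩) : bc (inc k A B n) m = beta k B M n (m ⊗ₜ[k] (1 : B)) := by
  rw [beta_tmul, map_one, one_smul]

theorem lift_bijective {R R' M N : Type u} [CommRing R] [CommRing R'] [AddCommGroup M] [Module R M] [AddCommGroup N]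
    [Module R' N] {x : R →+* R'} (φ : M →ₛₗ[x] N) (h : IsBC x φ.toAddMonoidHom) :
    Function.Bijective (BC.lift (RingHom.id_comp x) φ : BC x M →ₗ[R'] N) := by
  obtain ⟨f, hf⟩ := (isBC_bc (M := M) x).exists_equiv h
  have h1 : (BC.lift (RingHom.id_comp x) φ : BC x M →ₗ[R'] N) = f.toLinearMap :=
    BC.hom_ext fun m => (BC.lift_bc (RingHom.id_comp x) φ m).trans (hf m).symm
  rw [h1]
  exact f.bijective

variable (k B) in
/-- the map at a vertex -/
def sg (n : ℕ) (j : Fin (n + 1)) : M.obj ⟨0⟩ →ₛₗ[xp k A B n j] Nm k B M n where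
  toFun m := bc (inc k A B n) (M.map (pt ⟨n⟩ j) m)
  map_add' m m' := by rw [map_add, map_add]
  map_smul' r m := by
    rw [M.map_smul, LinearMap.map_smulₛₗ]
    rfl

@[simp] theorem sg_apply (n : ℕ) (j : Fin (n + 1)) (m : M.obj ⟨0⟩) :
    sg k B M n j m = bc (inc k A B n) (M.map (pt ⟨n⟩ j) m) := rfl

variable {M} (hM : M.Cart)

include hM in
theorem isBC_sg (n : ℕ) (j : Fin (n + 1)) : IsBC (xp k A B n j) (sg k B M n j).toAddMonoidHom :=
  (hM (pt ⟨n⟩ j)).comp (isBC_bc (M := M.obj ⟨n⟩) (inc k A B n))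

variable (k B) in
/-- the base change at a vertex is the module at the level -/
def can (n : ℕ) (i : Fin (n + 1)) : BC (xp k A B n i) (M.obj ⟨0⟩) ≃ₗ[B ⊗[k] A.obj (op ⟨n⟩)] Nm k B M n :=
  LinearEquiv.ofBijective _ (lift_bijective (sg k B M n i) (isBC_sg hM n i))

@[simp] theorem can_bc (n : ℕ) (i : Fin (n + 1)) (v : M.obj ⟨0⟩) :
    can k B hM n i (bc (xp k A B n i) v) = bc (inc k A B n) (M.map (pt ⟨n⟩ i) v) :=
  BC.lift_bc (RingHom.id_comp (xp k A B n i)) (sg k B M n i) v

theorem can_tr (f : B →ₐ[k] C) {m n : ℕ} (a : Fin (m + 1) → Fin (n + 1)) (i : Fin (m + 1))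
    (z : BC (xp k A B m i) (M.obj ⟨0⟩)) :
    can k C hM n (a i) (BC.tr (lv k A f a) (lv_xp k A f a i) z) = rm M f a (can k B hM m i z) := by
  induction z using BC.ind with
  | h0 => simp only [map_zero]
  | h1 r v =>
    rw [LinearMap.map_smulₛₗ, map_smul, map_smul, LinearMap.map_smulₛₗ, BC.tr_bc, can_bc, can_bc, rm_bc, ← M.map_comp]
    rfl
  | h2 x y hx hy => rw [map_add, map_add, map_add, map_add, hx, hy]

theorem can_symm_rm (f : B →ₐ[k] C) {m n : ℕ} (a : Fin (m + 1) → Fin (n + 1)) (i : Fin (m + 1)) (w : Nm k B M m) :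
    (can k C hM n (a i)).symm (rm M f a w) = BC.tr (lv k A f a) (lv_xp k A f a i) ((can k B hM m i).symm w) := by
  rw [LinearEquiv.symm_apply_eq, can_tr, LinearEquiv.apply_symm_apply]

end PM

section Act

variable {M : PM.{u} A} {H : Gp k} (e : ECo H M)

theorem ev1_mulk (n : ℕ) (r : A.obj (op ⟨n⟩)) (g : WithConv (H.O →ₐ[k] B)) (z : M.obj ⟨n⟩ ⊗[k] H.O) :
    ev1 g ((mulk (k := k) M ⟨n⟩ r).rTensor H.O z) = (mulk (k := k) M ⟨n⟩ r).rTensor B (ev1 g z) := by
  induction z using TensorProduct.induction_on with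
  | zero => simp only [map_zero]
  | add x y hx hy => simp only [map_add, hx, hy]
  | tmul m o => rfl

theorem ev1_mapk (f : B →ₐ[k] C) {m n : ℕ} (a : Fin (m + 1) → Fin (n + 1)) (g : WithConv (H.O →ₐ[k] B))
    (z : M.obj ⟨m⟩ ⊗[k] H.O) :
    ev1 (toConv (f.comp g.ofConv)) ((mapk (k := k) M (vmap a)).rTensor H.O z) =
      TensorProduct.map (mapk (k := k) M (vmap a)) f.toLinearMap (ev1 g z) := by
  induction z using TensorProduct.induction_on with
  | zero => simp only [map_zero]
  | add x y hx hy => simp only [map_add, hx, hy]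
  | tmul m o => rfl

/-- the action of a point of `H` -/
def T (n : ℕ) (g : WithConv (H.O →ₐ[k] B)) : Nm k B M n →ₗ[B ⊗[k] A.obj (op ⟨n⟩)] Nm k B M n :=
  BC.lift (σ := RingHom.id _) (τ := inc k A B n) (RingHom.id_comp _)
    { toFun := fun m => beta k B M n (ev1 g ((e.co ⟨n⟩).coact m))
      map_add' := fun m m' => by rw [map_add, map_add, map_add]
      map_smul' := fun r m => by rw [e.lin, ev1_mulk, beta_mulk] }

@[simp] theorem T_bc (n : ℕ) (g : WithConv (H.O →ₐ[k] B)) (m : M.obj ⟨n⟩) :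
    T e n g (bc (inc k A B n) m) = beta k B M n (ev1 g ((e.co ⟨n⟩).coact m)) :=
  BC.lift_bc (RingHom.id_comp (inc k A B n)) _ m

theorem T_beta (n : ℕ) (g : WithConv (H.O →ₐ[k] B)) (z : M.obj ⟨n⟩ ⊗[k] B) :
    T e n g (beta k B M n z) = beta k B M n (actM (e.co ⟨n⟩).coact g z) := by
  induction z using TensorProduct.induction_on with
  | zero => simp only [map_zero]
  | add x y hx hy => simp only [map_add, hx, hy]
  | tmul m d => rw [beta_tmul, map_smul, T_bc, actM_tmul', beta_rmul]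

attribute [local instance] convGrp

theorem T_one (n : ℕ) (v : Nm k B M n) : T e n (1 : WithConv (H.O →ₐ[k] B)) v = v := by
  induction v using BC.ind with
  | h0 => rw [map_zero]
  | h1 r m => rw [map_smul, bc_eq_beta, T_beta, actM_one]
  | h2 x y hx hy => rw [map_add, hx, hy]

theorem T_mul (n : ℕ) (g h : WithConv (H.O →ₐ[k] B)) (v : Nm k B M n) :
    T e n (g * h) v = T e n g (T e n h v) := by
  induction v using BC.ind with
  | h0 => simp only [map_zero]
  | h1 r m => rw [map_smul, map_smul, map_smul, bc_eq_beta, T_beta, T_beta, T_beta, actM_mul]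
  | h2 x y hx hy => rw [map_add, map_add, map_add, hx, hy]

theorem rm_T (f : B →ₐ[k] C) {m n : ℕ} (a : Fin (m + 1) → Fin (n + 1)) (g : WithConv (H.O →ₐ[k] B)) (v : Nm k B M m) :
    rm M f a (T e m g v) = T e n (toConv (f.comp g.ofConv)) (rm M f a v) := by
  induction v using BC.ind with
  | h0 => simp only [map_zero]
  | h1 r v =>
    rw [map_smul, LinearMap.map_smulₛₗ, LinearMap.map_smulₛₗ, map_smul, T_bc, rm_bc, T_bc, e.nat, ev1_mapk, beta_map]
  | h2 x y hx hy => rw [map_add, map_add, map_add, map_add, hx, hy]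

/-- the action as an equivalence -/
def TE (n : ℕ) (h : (pts H).pt B) : Nm k B M n ≃ₗ[B ⊗[k] A.obj (op ⟨n⟩)] Nm k B M n :=
  LinearEquiv.ofLinearMap (T e n h) (T e n (h⁻¹ : (pts H).pt B))
    (LinearMap.ext fun v => by
      rw [LinearMap.comp_apply]
      refine (T_mul e n h (h⁻¹ : (pts H).pt B) v).symm.trans ?_
      exact (congrArg (fun g : WithConv (H.O →ₐ[k] B) => T e n g v) (mul_inv_cancel (G := (pts H).pt B) h)).trans
        (T_one e n v))
    (LinearMap.ext fun v => by
      rw [LinearMap.comp_apply]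
      refine (T_mul e n (h⁻¹ : (pts H).pt B) h v).symm.trans ?_
      exact (congrArg (fun g : WithConv (H.O →ₐ[k] B) => T e n g v) (inv_mul_cancel (G := (pts H).pt B) h)).trans
        (T_one e n v))

@[simp] theorem TE_apply (n : ℕ) (h : (pts H).pt B) (v : Nm k B M n) : TE e n h v = T e n h v := rfl

variable (hM : M.Cart)

variable (B) in
/-- **the arrow** -/
def ar (n : ℕ) (i j : Fin (n + 1)) (h : (pts H).pt B) :
    BC (xp k A B n i) (M.obj ⟨0⟩) ≃ₗ[B ⊗[k] A.obj (op ⟨n⟩)] BC (xp k A B n j) (M.obj ⟨0⟩) :=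
  (can k B hM n i).trans ((TE e n h).trans (can k B hM n j).symm)

theorem ar_apply (n : ℕ) (i j : Fin (n + 1)) (h : (pts H).pt B) (z : BC (xp k A B n i) (M.obj ⟨0⟩)) :
    ar B e hM n i j h z = (can k B hM n j).symm (T e n h (can k B hM n i z)) := rfl

@[simp] theorem can_ar (n : ℕ) (i j : Fin (n + 1)) (h : (pts H).pt B) (z : BC (xp k A B n i) (M.obj ⟨0⟩)) :
    can k B hM n j (ar B e hM n i j h z) = T e n h (can k B hM n i z) := by
  rw [ar_apply, LinearEquiv.apply_symm_apply]

theorem ar_one (n : ℕ) (i : Fin (n + 1)) : ar B e hM n i i 1 = LinearEquiv.refl _ _ := by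
  ext z
  rw [ar_apply]
  refine (congrArg (can k B hM n i).symm (T_one e n (can k B hM n i z))).trans ?_
  rw [LinearEquiv.symm_apply_apply]
  rfl

theorem ar_comp_apply (n : ℕ) (i j l : Fin (n + 1)) (h h' : (pts H).pt B) (z : BC (xp k A B n i) (M.obj ⟨0⟩)) :
    ar B e hM n j l h' (ar B e hM n i j h z) = ar B e hM n i l (h' * h) z := by
  rw [ar_apply e hM n j l h', can_ar]
  exact congrArg (can k B hM n l).symm (T_mul e n h' h (can k B hM n i z)).symm

theorem ar_comp (n : ℕ) (i j l : Fin (n + 1)) (h h' : (pts H).pt B) :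
    (ar B e hM n i j h).trans (ar B e hM n j l h') = ar B e hM n i l (h' * h) :=
  LinearEquiv.ext fun z => ar_comp_apply e hM n i j l h h' z

theorem ar_symm (n : ℕ) (i j : Fin (n + 1)) (h : (pts H).pt B) :
    (ar B e hM n i j h).symm = ar B e hM n j i h⁻¹ := by
  ext z
  rw [LinearEquiv.symm_apply_eq, ar_comp_apply, mul_inv_cancel, ar_one]
  rfl

theorem ar_tr (f : B →ₐ[k] C) {m n : ℕ} (a : Fin (m + 1) → Fin (n + 1)) (i j : Fin (m + 1)) (h : (pts H).pt B)
    (z : BC (xp k A B m i) (M.obj ⟨0⟩)) :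
    ar C e hM n (a i) (a j) ((pts H).map f h) (BC.tr (lv k A f a) (lv_xp k A f a i) z) =
      BC.tr (lv k A f a) (lv_xp k A f a j) (ar B e hM m i j h z) := by
  rw [ar_apply, can_tr]
  refine (congrArg (can k C hM n (a j)).symm (rm_T e f a h (can k B hM m i z)).symm).trans ?_
  rw [can_symm_rm]
  rfl

theorem ar_pull (f : B →ₐ[k] C) {m n : ℕ} (a : Fin (m + 1) → Fin (n + 1)) (i j : Fin (m + 1)) (h : (pts H).pt B) :
    BC.pullE (lv k A f a) (lv_xp k A f a i) (lv_xp k A f a j) (ar B e hM m i j h) =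
      ar C e hM n (a i) (a j) ((pts H).map f h) := by
  refine LinearEquiv.toLinearMap_injective (BC.hom_ext_tr (lv_xp k A f a i) fun z => ?_)
  refine (BC.pullE_tr (lv_xp k A f a i) (lv_xp k A f a j) (ar B e hM m i j h) z).trans ?_
  exact (ar_tr e hM f a i j h z).symm

/-- the value on `M⟨0⟩` -/
theorem can_ar_bc (n : ℕ) (i j : Fin (n + 1)) (h : (pts H).pt B) (v : M.obj ⟨0⟩) :
    can k B hM n j (ar B e hM n i j h (bc _ v)) =
      beta k B M n (ev1 h ((e.co ⟨n⟩).coact (M.map (pt ⟨n⟩ i) v))) := by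
  rw [can_ar, can_bc]
  exact T_bc e n h _

/-- the value on `M⟨0⟩`, the coaction at `⟨0⟩` -/
theorem can_ar_bc' (n : ℕ) (i j : Fin (n + 1)) (h : (pts H).pt B) (v : M.obj ⟨0⟩) :
    can k B hM n j (ar B e hM n i j h (bc _ v)) =
      beta k B M n ((mapk (k := k) M (pt ⟨n⟩ i)).rTensor B (ev1 h ((e.co ⟨0⟩).coact v))) := by
  rw [can_ar_bc, e.nat]
  congr 1
  generalize (e.co ⟨0⟩).coact v = z
  induction z using TensorProduct.induction_on with
  | zero => simp only [map_zero]
  | add x y hx hy => simp only [map_add, hx, hy]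
  | tmul m o => rfl

end Act

/-! ### naturality -/

section Hom

variable {M M' : PM.{u} A} {H : Gp k} (e : ECo H M) (e' : ECo H M') (hM : M.Cart) (hM' : M'.Cart)
  (f : ∀ n : ℕ, M.obj ⟨n⟩ →ₗ[A.obj (op ⟨n⟩)] M'.obj ⟨n⟩)
  (f_nat : ∀ (n : ℕ) (i : Fin (n + 1)) (v : M.obj ⟨0⟩), f n (M.map (pt ⟨n⟩ i) v) = M'.map (pt ⟨n⟩ i) (f 0 v))
  (f_co : ∀ (n : ℕ) (v : M.obj ⟨n⟩), (e'.co ⟨n⟩).coact (f n v) =
    ((f n).restrictScalars k).rTensor H.O ((e.co ⟨n⟩).coact v))

include f_nat in
theorem can_map (n : ℕ) (i : Fin (n + 1)) (z : BC (xp k A B n i) (M.obj ⟨0⟩)) :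
    can k B hM' n i (BC.map (xp k A B n i) (f 0) z) = BC.map (inc k A B n) (f n) (can k B hM n i z) := by
  induction z using BC.ind with
  | h0 => simp only [map_zero]
  | h1 r v => rw [map_smul, map_smul, map_smul, map_smul, BC.map_bc, can_bc, can_bc, BC.map_bc, f_nat]
  | h2 x y hx hy => rw [map_add, map_add, map_add, map_add, hx, hy]

theorem map_beta (n : ℕ) (z : M.obj ⟨n⟩ ⊗[k] B) :
    BC.map (inc k A B n) (f n) (beta k B M n z) = beta k B M' n (((f n).restrictScalars k).rTensor B z) := by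
  induction z using TensorProduct.induction_on with
  | zero => simp only [map_zero]
  | add x y hx hy => simp only [map_add, hx, hy]
  | tmul m c =>
    rw [beta_tmul, LinearMap.rTensor_tmul, beta_tmul, map_smul, BC.map_bc]
    rfl

include f_co in
theorem map_T (n : ℕ) (h : WithConv (H.O →ₐ[k] B)) (z : Nm k B M n) :
    BC.map (inc k A B n) (f n) (T e n h z) = T e' n h (BC.map (inc k A B n) (f n) z) := by
  induction z using BC.ind with
  | h0 => simp only [map_zero]
  | h2 x y hx hy => rw [map_add, map_add, map_add, map_add, hx, hy]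
  | h1 r v =>
    rw [map_smul, map_smul, map_smul, map_smul, T_bc, BC.map_bc, T_bc, f_co, map_beta]
    congr 2
    generalize (e.co ⟨n⟩).coact v = z
    induction z using TensorProduct.induction_on with
    | zero => simp only [map_zero]
    | add x y hx hy => simp only [map_add, hx, hy]
    | tmul m o => rfl

include f_nat f_co in
theorem map_ar (n : ℕ) (i j : Fin (n + 1)) (h : (pts H).pt B) (z : BC (xp k A B n i) (M.obj ⟨0⟩)) :
    BC.map (xp k A B n j) (f 0) (ar B e hM n i j h z) = ar B e' hM' n i j h (BC.map (xp k A B n i) (f 0) z) := by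
  apply (can k B hM' n j).injective
  rw [can_map hM hM' f f_nat n j, can_ar, can_ar, can_map hM hM' f f_nat n i]
  exact map_T e e' f f_co n h _

end Hom

end Groth.Agent.ResProp.EF.K884.LevPM
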