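import Groth.Agent.ResProp.EF.K884.LevTrip
import Groth.Agent.ResProp.EF.K86.KmapLv
import Groth.Agent.ResProp.EF.K567.WGpd

/-!
# `Lev` on the groupoid of points of the data with symbols

* `Om_etaD` : the differential of `etaD` on `H`-coinvariant differentials;
* `dIso` : `IsoDat (rhoOf ω) (xp i) (xp j)` for every point of `H`; `dIso_one`, `dIso_comp`, `dIso_pull`;
* `toTrip` : the faithful functor `wGpd → tripGpd`;
* `levW` : `Lev k A (pts c.H) (wGpd w hu)` from the congruence `cond` for the universal arrow, `levW_a`, `levW_M`,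
  `levW_match` (`EtaMatch`).
-/

set_option autoImplicit false
set_option linter.dupNamespace false

universe u v

open CategoryTheory Opposite TensorProduct

noncomputable section

namespace Groth.Agent.ResProp.EF.K884.LevW

open Groth.Agent.ResProp.EF.K980 K784.BC K784.PM K741.RP EF56 K477
open Groth.Agent.ResProp.EF.Arch Groth.Agent.ResProp.EF.Grp
open Groth.Agent.ResProp.EF.K208 WithConv
open Groth.Agent.ResProp.EF.K863 Groth.Agent.ResProp.EF.K964 Groth.Agent.ResProp.EF.K567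
open Groth.Agent.ResProp.EF.K86 (wit hLv omPM omk omC)
open Groth.Agent.ResProp.EF.K884.LevPM Groth.Agent.ResProp.EF.K884.EtaD Groth.Agent.ResProp.EF.K884.MatPt
  Groth.Agent.ResProp.EF.K884.LevGen Groth.Agent.ResProp.EF.K884.LevTrip

/-! ### the functor to the groupoid of triples -/

section trip

variable {R : Type u} [CommRing R] {D : Type u} [CommRing D] [Algebra R D] {V : Type u} [AddCommGroup V]
  [Module D V] [Module R V] [IsScalarTower R D V] {ρ : V →ₗ[D] Ω[D⁄R]} {m : Model R D V ρ}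
  {e : ℕ} {w : Fin e → ℕ} {u : Fin e → m.PP} (hu : ∀ i, u i ∈ m.Fil (w i))

/-- an arrow of `wGpd` is a triple -/
def toTrip : PGpd.Fun (wGpd w hu) (tripGpd D V (Fin e)) where
  app p := (p.a.eta, p.a.etaV, p.M)
  app_id _ := rfl
  app_comp _ _ := rfl
  app_pull _ _ _ _ _ _ _ _ := rfl

theorem toTrip_inj {R' : Type u} [CommRing R'] {x y : R →+* R'} (p q : (wGpd w hu).Hom x y)
    (h : (toTrip hu).app p = (toTrip hu).app q) : p = q :=
  wGpd_ext hu (IsoDat.ext (congrArg Prod.fst h) (congrArg (fun t => t.2.1) h))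
    (congrArg (fun t => (t.2.2 : (Matrix (Fin e) (Fin e) R')ˣ).val) h)

end trip

/-! ### the arrows on the datum -/

variable {k : Type u} [CommRing k] {A : NFᵒᵖ ⥤ CommRingCat.{u}} [GRF k A]
  {x : PrimeSpectrum (A.obj (op ⟨0⟩))} (c : CoverDatum k A x)
  {ι : Type} [Fintype ι] [DecidableEq ι] {C : Matrix ι ι c.H.O} (hC : IsMC C)
  {ω : ι → Ω[(c.Y.D.obj (op ⟨0⟩))⁄(A.obj (op ⟨0⟩))]}
  (hinv : ∀ l, (omPM c.Y.j).map (pr ⟨0⟩) (show (omPM c.Y.j).obj ⟨0⟩ from ω l) =
    (omPM c.Y.j).map (lst ⟨0⟩) (show (omPM c.Y.j).obj ⟨0⟩ from ω l))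
  (hco : letI := omk c ⟨0⟩; ∀ l, (omC c ⟨0⟩).coact (show (omPM c.Y.j).obj ⟨0⟩ from ω l) =
    ∑ m, (show (omPM c.Y.j).obj ⟨0⟩ from ω m) ⊗ₜ[k] C m l)

include hinv hco in
/-- the differential of `etaD` on the coinvariant generators -/
theorem Om_etaD (B : Type u) [CommRing B] [Algebra k B] (n : ℕ) (i j : Fin (n + 1)) (h : (pts c.H).pt B) (l : ι) :
    Om (etaD c B n i j h).toAlgHom (kmap (xp k A B n i) (ω l)) =
      ∑ m, (matPt A B hC n h).1 m l • kmap (xp k A B n j) (ω m) :=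
  K86.kmap_formula_lv c B n (fun l => (show (omPM c.Y.j).obj ⟨0⟩ from ω l)) C hinv hco i j h.ofConv
    (etaD c B n i j h).toAlgHom.toRingHom (vtxD_etaD_bc c n i j h) (Om (etaD c B n i j h).toAlgHom)
    (fun a b => by rw [Om_smul, Om_D]; rfl) l

/-- the arrows on the datum `(D, ι → D, ω)` -/
def dIso (B : Type u) [CommRing B] [Algebra k B] (n : ℕ) (i j : Fin (n + 1)) (h : (pts c.H).pt B) :
    IsoDat (rhoOf ω) (xp k A B n i) (xp k A B n j) :=
  isoDatOfMat (etaD c B n i j h) (matPt A B hC n h) (Om_etaD c hC hinv hco B n i j h)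

@[simp] theorem dIso_eta (B : Type u) [CommRing B] [Algebra k B] (n : ℕ) (i j : Fin (n + 1)) (h : (pts c.H).pt B) :
    (dIso c hC hinv hco B n i j h).eta = etaD c B n i j h := rfl

@[simp] theorem dIso_etaV (B : Type u) [CommRing B] [Algebra k B] (n : ℕ) (i j : Fin (n + 1)) (h : (pts c.H).pt B) :
    (dIso c hC hinv hco B n i j h).etaV = etaV c hC B n i j h := rfl

theorem dIso_one (B : Type u) [CommRing B] [Algebra k B] (n : ℕ) (i : Fin (n + 1)) :
    dIso c hC hinv hco B n i i 1 = IsoDat.refl _ _ :=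
  IsoDat.ext (etaD_one c n i) (etaV_one c hC B n i)

theorem dIso_comp (B : Type u) [CommRing B] [Algebra k B] (n : ℕ) (i j l : Fin (n + 1)) (h h' : (pts c.H).pt B) :
    (dIso c hC hinv hco B n i j h).trans (dIso c hC hinv hco B n j l h') = dIso c hC hinv hco B n i l (h' * h) :=
  IsoDat.ext (etaD_comp c n i j l h h') (etaV_comp c hC B n i j l h h')

theorem dIso_pull (m : Model (A.obj (op ⟨0⟩)) (c.Y.D.obj (op ⟨0⟩)) (ι → c.Y.D.obj (op ⟨0⟩)) (rhoOf ω))
    {B : Type u} [CommRing B] [Algebra k B] {B' : Type u} [CommRing B'] [Algebra k B'] (f : B →ₐ[k] B')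
    {a n : ℕ} (s : Fin (a + 1) → Fin (n + 1)) (i j : Fin (a + 1)) (h : (pts c.H).pt B) :
    (dIso c hC hinv hco B a i j h).pull m (lv k A f s) (lv_xp k A f s i) (lv_xp k A f s j) =
      dIso c hC hinv hco B' n (s i) (s j) ((pts c.H).map f h) :=
  IsoDat.ext (etaD_pull c f s i j h) (etaV_pull c hC f s i j h)

/-! ### `Lev` -/

section lev

variable {m : Model (A.obj (op ⟨0⟩)) (c.Y.D.obj (op ⟨0⟩)) (ι → c.Y.D.obj (op ⟨0⟩)) (rhoOf ω)}
  {e : ℕ} {w : Fin e → ℕ} {u : Fin e → m.PP} (hu : ∀ i, u i ∈ m.Fil (w i))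
  {C' : Matrix (Fin e) (Fin e) c.H.O} (hC' : IsMC C')

theorem wPres_matPt (hC' : IsMC C') (hwt : ∀ i j, w i ≠ w j → C' i j = 0) (B : Type u) [CommRing B] [Algebra k B] (n : ℕ)
    (h : (pts c.H).pt B) : WPres w (matPt A B hC' n h).1 := fun i j hij => by
  rw [matPt_val, hwt i j hij, map_zero, zero_tmul]

theorem wPres_matPt_inv (hC' : IsMC C') (hwt : ∀ i j, w i ≠ w j → C' i j = 0) (B : Type u) [CommRing B] [Algebra k B]
    (n : ℕ) (h : (pts c.H).pt B) : WPres w ((matPt A B hC' n h)⁻¹).1 := fun i j hij => by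
  change ((h⁻¹ : (pts c.H).pt B).ofConv (C' i j)) ⊗ₜ[k] (1 : A.obj (op ⟨n⟩)) = 0
  rw [hwt i j hij, map_zero, zero_tmul]

/-- the universal arrow -/
def uW (hwt : ∀ i j, w i ≠ w j → C' i j = 0)
    (hcond : WCond m w u (dIso c hC hinv hco c.H.O 1 0 1 (upt c.H)) (matPt A c.H.O hC' 1 (upt c.H)).1) :
    (wGpd w hu).Hom (xp k A c.H.O 1 0) (xp k A c.H.O 1 1) :=
  { a := dIso c hC hinv hco c.H.O 1 0 1 (upt c.H)
    M := matPt A c.H.O hC' 1 (upt c.H)
    wt := wPres_matPt c hC' hwt _ _ _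
    wt' := wPres_matPt_inv c hC' hwt _ _ _
    cond := hcond }

variable (hwt : ∀ i j, w i ≠ w j → C' i j = 0)
    (hcond : WCond m w u (dIso c hC hinv hco c.H.O 1 0 1 (upt c.H)) (matPt A c.H.O hC' 1 (upt c.H)).1)

/-- **`Lev` on `wGpd`** -/
def levW : Lev k A (pts c.H) (wGpd w hu) :=
  levOf (toTrip hu) (trLev c hC hC') (univ := uW c hC hinv hco hu hC' hwt hcond) rfl (toTrip_inj hu)

theorem toTrip_levW (B : Type u) [CommRing B] [Algebra k B] (n : ℕ) (i j : Fin (n + 1)) (h : (pts c.H).pt B) :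
    (toTrip hu).app ((levW c hC hinv hco hu hC' hwt hcond).ar B n i j h) = (trLev c hC hC').ar B n i j h :=
  app_arOf (toTrip hu) (trLev c hC hC') rfl B n i j h

theorem levW_a (B : Type u) [CommRing B] [Algebra k B] (n : ℕ) (i j : Fin (n + 1)) (h : (pts c.H).pt B) :
    (wFun hu).app ((levW c hC hinv hco hu hC' hwt hcond).ar B n i j h) = dIso c hC hinv hco B n i j h :=
  IsoDat.ext (congrArg Prod.fst (toTrip_levW c hC hinv hco hu hC' hwt hcond B n i j h))
    (congrArg (fun t => t.2.1) (toTrip_levW c hC hinv hco hu hC' hwt hcond B n i j h))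

theorem levW_M (B : Type u) [CommRing B] [Algebra k B] (n : ℕ) (i j : Fin (n + 1)) (h : (pts c.H).pt B) :
    wN hu ((levW c hC hinv hco hu hC' hwt hcond).ar B n i j h) = (matPt A B hC' n h).1 :=
  congrArg (fun t => (t.2.2 : (Matrix (Fin e) (Fin e) _)ˣ).val)
    (toTrip_levW c hC hinv hco hu hC' hwt hcond B n i j h)

/-- **`EtaMatch`** -/
theorem levW_match : EtaMatch c (levW c hC hinv hco hu hC' hwt hcond)
    (fun {_} [CommRing _] {_ _} a v => ((wFun hu).app a).eta v) :=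
  etaMatch_of c _ _ fun B _ _ n i j h z => by
    have h1 := levW_a c hC hinv hco hu hC' hwt hcond B n i j h
    exact congrArg (fun t : IsoDat _ _ _ => t.eta z) h1

end lev

end Groth.Agent.ResProp.EF.K884.LevW
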