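import Groth.Agent.ResProp.EF.K363.AD1

/-!
# Modules realized at all levels of a nerve, with a group action: the arrows (seam W3 of the producer side)

`LvMod Lv Hg M` : the `R`-module `M` is realized at every level `n` by a module `N n` over `Lv.Rn n`, with the group `Hg`
acting on `N n`.  Output `LvMod.arr n i j h : BC (x n i) M ≃ BC (x n j) M` with `arr_one`, `arr_comp`, `arr_pull`
in the form of helper363's `LvArr`.
-/

set_option autoImplicit false

universe u v w

namespace Groth.Agent.ResProp.EF.K884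

open Groth.Agent.ResProp.EF.K980 Groth.Agent.ResProp.EF.K363

variable {R : Type u} [CommRing R]

/-- the `R`-module `M`, realized at all levels, with an action of `Hg` -/
structure LvMod (Lv : LvRing.{u} R) (Hg : Type v) [Group Hg] (M : Type u) [AddCommGroup M] [Module R M] where
  N : ℕ → Type u
  [ac : ∀ n, AddCommGroup (N n)]
  [md : ∀ n, Module (Lv.Rn n) (N n)]
  sg : ∀ (n : ℕ) (i : Fin (n + 1)), M →ₛₗ[Lv.x n i] N n
  sg_bij : ∀ (n : ℕ) (i : Fin (n + 1)), Function.Bijective (BC.lift (RingHom.id_comp (Lv.x n i)) (sg n i))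
  ra : ∀ {m n : ℕ} (a : Fin (m + 1) → Fin (n + 1)), N m →ₛₗ[Lv.r a] N n
  ra_sg : ∀ {m n : ℕ} (a : Fin (m + 1) → Fin (n + 1)) (i : Fin (m + 1)) (v : M), ra a (sg m i v) = sg n (a i) v
  T : ∀ n : ℕ, Hg → (N n →ₗ[Lv.Rn n] N n)
  T_one : ∀ (n : ℕ) (v : N n), T n 1 v = v
  T_mul : ∀ (n : ℕ) (h h' : Hg) (v : N n), T n (h' * h) v = T n h' (T n h v)
  T_ra : ∀ {m n : ℕ} (a : Fin (m + 1) → Fin (n + 1)) (h : Hg) (v : N m), ra a (T m h v) = T n h (ra a v)

attribute [instance] LvMod.ac LvMod.md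

namespace LvMod

variable {Lv : LvRing.{u} R} {Hg : Type v} [Group Hg] {M : Type u} [AddCommGroup M] [Module R M]

section

variable (E : LvMod Lv Hg M)

/-- the base change at a vertex is the module at the level -/
noncomputable def can (n : ℕ) (i : Fin (n + 1)) : BC (Lv.x n i) M ≃ₗ[Lv.Rn n] E.N n :=
  LinearEquiv.ofBijective _ (E.sg_bij n i)

@[simp] theorem can_bc (n : ℕ) (i : Fin (n + 1)) (v : M) : E.can n i (bc (Lv.x n i) v) = E.sg n i v :=
  BC.lift_bc (RingHom.id_comp (Lv.x n i)) (E.sg n i) v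

theorem can_tr {m n : ℕ} (a : Fin (m + 1) → Fin (n + 1)) (i : Fin (m + 1)) (z : BC (Lv.x m i) M) :
    E.can n (a i) (BC.tr (Lv.r a) (Lv.r_x a i) z) = E.ra a (E.can m i z) := by
  induction z using BC.ind with
  | h0 => simp
  | h1 r v =>
    rw [LinearMap.map_smulₛₗ, map_smul, map_smul, LinearMap.map_smulₛₗ, BC.tr_bc, can_bc, can_bc, E.ra_sg]
  | h2 x y hx hy => rw [map_add, map_add, map_add, map_add, hx, hy]

theorem can_symm_ra {m n : ℕ} (a : Fin (m + 1) → Fin (n + 1)) (i : Fin (m + 1)) (w : E.N m) :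
    (E.can n (a i)).symm (E.ra a w) = BC.tr (Lv.r a) (Lv.r_x a i) ((E.can m i).symm w) := by
  rw [LinearEquiv.symm_apply_eq, can_tr, LinearEquiv.apply_symm_apply]

/-- the action of an element of the group -/
noncomputable def TE (n : ℕ) (h : Hg) : E.N n ≃ₗ[Lv.Rn n] E.N n :=
  LinearEquiv.ofLinearMap (E.T n h) (E.T n h⁻¹)
    (LinearMap.ext fun v => by
      rw [LinearMap.comp_apply, ← E.T_mul, mul_inv_cancel, E.T_one]; rfl)
    (LinearMap.ext fun v => by
      rw [LinearMap.comp_apply, ← E.T_mul, inv_mul_cancel, E.T_one]; rfl)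

@[simp] theorem TE_apply (n : ℕ) (h : Hg) (v : E.N n) : E.TE n h v = E.T n h v := rfl

/-- the arrow of the edge `i → j` and the element `h` -/
noncomputable def arr (n : ℕ) (i j : Fin (n + 1)) (h : Hg) : BC (Lv.x n i) M ≃ₗ[Lv.Rn n] BC (Lv.x n j) M :=
  (E.can n i).trans ((E.TE n h).trans (E.can n j).symm)

theorem arr_apply (n : ℕ) (i j : Fin (n + 1)) (h : Hg) (z : BC (Lv.x n i) M) :
    E.arr n i j h z = (E.can n j).symm (E.T n h (E.can n i z)) := rfl

@[simp] theorem can_arr (n : ℕ) (i j : Fin (n + 1)) (h : Hg) (z : BC (Lv.x n i) M) :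
    E.can n j (E.arr n i j h z) = E.T n h (E.can n i z) := by
  rw [arr_apply, LinearEquiv.apply_symm_apply]

theorem arr_one (n : ℕ) (i : Fin (n + 1)) : E.arr n i i 1 = LinearEquiv.refl _ _ := by
  ext z
  rw [arr_apply, E.T_one, LinearEquiv.symm_apply_apply]
  rfl

theorem arr_comp (n : ℕ) (i j l : Fin (n + 1)) (h h' : Hg) :
    (E.arr n i j h).trans (E.arr n j l h') = E.arr n i l (h' * h) := by
  ext z
  rw [LinearEquiv.trans_apply, E.arr_apply n j l h', can_arr, ← E.T_mul]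
  rfl

theorem arr_comp_apply (n : ℕ) (i j l : Fin (n + 1)) (h h' : Hg) (z : BC (Lv.x n i) M) :
    E.arr n j l h' (E.arr n i j h z) = E.arr n i l (h' * h) z := by
  rw [← arr_comp]
  rfl

theorem arr_symm (n : ℕ) (i j : Fin (n + 1)) (h : Hg) : (E.arr n i j h).symm = E.arr n j i h⁻¹ := by
  ext z
  rw [LinearEquiv.symm_apply_eq, arr_comp_apply, mul_inv_cancel, arr_one]
  rfl

theorem arr_tr {m n : ℕ} (a : Fin (m + 1) → Fin (n + 1)) (i j : Fin (m + 1)) (h : Hg) (z : BC (Lv.x m i) M) :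
    E.arr n (a i) (a j) h (BC.tr (Lv.r a) (Lv.r_x a i) z) = BC.tr (Lv.r a) (Lv.r_x a j) (E.arr m i j h z) := by
  rw [arr_apply, can_tr, ← E.T_ra, can_symm_ra]
  rfl

theorem arr_pull {m n : ℕ} (a : Fin (m + 1) → Fin (n + 1)) (i j : Fin (m + 1)) (h : Hg) :
    BC.pullE (Lv.r a) (Lv.r_x a i) (Lv.r_x a j) (E.arr m i j h) = E.arr n (a i) (a j) h := by
  refine LinearEquiv.toLinearMap_injective (BC.hom_ext_tr (Lv.r_x a i) fun z => ?_)
  show BC.pullE (Lv.r a) (Lv.r_x a i) (Lv.r_x a j) (E.arr m i j h) (BC.tr (Lv.r a) (Lv.r_x a i) z) =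
    E.arr n (a i) (a j) h (BC.tr (Lv.r a) (Lv.r_x a i) z)
  rw [BC.pullE_tr, arr_tr]

end

/-! ### morphisms -/

variable {M' : Type u} [AddCommGroup M'] [Module R M'] {M'' : Type u} [AddCommGroup M''] [Module R M'']

/-- a morphism of realized modules over `f : M → M'` -/
structure Hom (E : LvMod Lv Hg M) (E' : LvMod Lv Hg M') (f : M →ₗ[R] M') where
  g : ∀ n : ℕ, E.N n →ₗ[Lv.Rn n] E'.N n
  g_sg : ∀ (n : ℕ) (i : Fin (n + 1)) (v : M), g n (E.sg n i v) = E'.sg n i (f v)
  g_T : ∀ (n : ℕ) (h : Hg) (v : E.N n), g n (E.T n h v) = E'.T n h (g n v)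

namespace Hom

variable {E : LvMod Lv Hg M} {E' : LvMod Lv Hg M'} {f : M →ₗ[R] M'} (g : Hom E E' f)

include g

theorem can_map (n : ℕ) (i : Fin (n + 1)) (z : BC (Lv.x n i) M) :
    E'.can n i (BC.map (Lv.x n i) f z) = g.g n (E.can n i z) := by
  induction z using BC.ind with
  | h0 => simp
  | h1 r v => rw [map_smul, map_smul, map_smul, map_smul, BC.map_bc, can_bc, can_bc, g.g_sg]
  | h2 x y hx hy => rw [map_add, map_add, map_add, map_add, hx, hy]

theorem map_arr (n : ℕ) (i j : Fin (n + 1)) (h : Hg) (z : BC (Lv.x n i) M) :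
    BC.map (Lv.x n j) f (E.arr n i j h z) = E'.arr n i j h (BC.map (Lv.x n i) f z) := by
  apply (E'.can n j).injective
  rw [can_map g n j, can_arr, can_arr, g.g_T, can_map g n i]

end Hom

/-- a pairing of realized modules over `β : M → M' → M''` -/
structure Bil (E : LvMod Lv Hg M) (E' : LvMod Lv Hg M') (E'' : LvMod Lv Hg M'') (β : M →ₗ[R] M' →ₗ[R] M'') where
  b : ∀ n : ℕ, E.N n →ₗ[Lv.Rn n] E'.N n →ₗ[Lv.Rn n] E''.N n
  b_sg : ∀ (n : ℕ) (i : Fin (n + 1)) (v : M) (v' : M'), b n (E.sg n i v) (E'.sg n i v') = E''.sg n i (β v v')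
  b_T : ∀ (n : ℕ) (h : Hg) (v : E.N n) (v' : E'.N n), E''.T n h (b n v v') = b n (E.T n h v) (E'.T n h v')

namespace Bil

variable {E : LvMod Lv Hg M} {E' : LvMod Lv Hg M'} {E'' : LvMod Lv Hg M''} {β : M →ₗ[R] M' →ₗ[R] M''}
  (b : Bil E E' E'' β)

include b in
theorem can_bil (n : ℕ) (i : Fin (n + 1)) (z : BC (Lv.x n i) M) (z' : BC (Lv.x n i) M') :
    E''.can n i (BC.bil (Lv.x n i) β z z') = b.b n (E.can n i z) (E'.can n i z') := by
  induction z using BC.ind with
  | h0 => simp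
  | h1 r v =>
    induction z' using BC.ind with
    | h0 => simp
    | h1 r' v' =>
      rw [LinearMap.map_smul₂, (E.can n i).map_smul, (E'.can n i).map_smul, LinearMap.map_smul₂, (E''.can n i).map_smul,
        LinearMap.map_smul, (E''.can n i).map_smul, LinearMap.map_smul, BC.bil_bc, can_bc, can_bc, can_bc, b.b_sg]
    | h2 x y hx hy => rw [map_add, map_add, map_add, map_add, hx, hy]
  | h2 x y hx hy => rw [map_add, LinearMap.add_apply, map_add, map_add, map_add, LinearMap.add_apply, hx, hy]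

include b in
theorem arr_bil (n : ℕ) (i j : Fin (n + 1)) (h : Hg) (z : BC (Lv.x n i) M) (z' : BC (Lv.x n i) M') :
    E''.arr n i j h (BC.bil (Lv.x n i) β z z') = BC.bil (Lv.x n j) β (E.arr n i j h z) (E'.arr n i j h z') := by
  apply (E''.can n j).injective
  rw [b.can_bil n j, can_arr, can_arr, can_arr, b.can_bil n i, b.b_T]

end Bil

end LvMod

end Groth.Agent.ResProp.EF.K884
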