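import Groth.Agent.ResProp.EF.K884.LvAct
import Groth.Agent.ResProp.EF.K363.Lev
import Groth.Agent.ResProp.EF.K172.GrBC
import Groth.Agent.ResProp.EF.K649.Pts
import Groth.Agent.ResProp.EF.Arch

/-!
# Cartesian modules with a coaction of `H` as realized modules (seam W3)

`LvB k A B` : groupoid rings `E⟨n⟩` under `A⟨n⟩` and `B` (e.g. `B ⊗_k A⟨n⟩`), levels `LvB.lv`.
`LvB.ofPM M hM e` : a cartesian module `M` with `e : ECo H M` gives `LvMod L.lv (H(B)) (M.obj ⟨0⟩)`.
-/

set_option autoImplicit false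
set_option linter.dupNamespace false

universe u v w

open CategoryTheory Opposite TensorProduct

noncomputable section

namespace Groth.Agent.ResProp.EF.K884

open Groth.Agent.ResProp.EF.K980 Groth.Agent.ResProp.EF.K363 K784.BC K784.PM K741.RP EF56
open Groth.Agent.ResProp.EF.Arch Groth.Agent.ResProp.EF.Grp
open Groth.Agent.ResProp.EF.K208 Groth.Agent.ResProp.EF.K649 Groth.Agent.ResProp.EF.K172 WithConv

variable (k : Type u) [CommRing k] (A : NFᵒᵖ ⥤ CommRingCat.{u}) [GRF k A]

/-- levels over `A` and `B` -/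
structure LvB (B : Type u) [CommRing B] [Algebra k B] where
  E : NFᵒᵖ ⥤ CommRingCat.{u}
  incl : A ⟶ E
  fl : (incl.app (op ⟨0⟩)).hom.Flat
  gr : GR E
  b : ∀ a : NF, B →+* E.obj (op a)
  b_nat : ∀ {a c : NF} (φ : a ⟶ c), (rg E φ).comp (b c) = b a
  b_k : ∀ (a : NF) (r : k), b a (algebraMap k B r) = (incl.app (op a)).hom (algebraMap k (A.obj (op a)) r)

variable {k A} {B : Type u} [CommRing B] [Algebra k B] (L : LvB k A B)

namespace LvB

/-- the levels -/
def lv : LvRing.{u} (A.obj (op ⟨0⟩)) := lvOf L.incl L.fl L.gr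

/-- the inclusion of the level `a` -/
abbrev i (a : NF) : A.obj (op a) →+* L.E.obj (op a) := (L.incl.app (op a)).hom

theorem i_nat {a c : NF} (φ : a ⟶ c) : (L.i a).comp (rg A φ) = (rg L.E φ).comp (L.i c) :=
  congrArg CommRingCat.Hom.hom (L.incl.naturality φ.op)

theorem i_nat_apply {a c : NF} (φ : a ⟶ c) (r : A.obj (op c)) : L.i a (rg A φ r) = rg L.E φ (L.i c r) :=
  RingHom.congr_fun (L.i_nat φ) r

theorem b_nat_apply {a c : NF} (φ : a ⟶ c) (r : B) : rg L.E φ (L.b c r) = L.b a r :=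
  RingHom.congr_fun (L.b_nat φ) r

section PM

variable (M : PM.{u} A)

/-- the module at a level -/
abbrev Nm (a : NF) : Type u := BC (L.i a) (M.obj a)

/-- restriction -/
def rm {a c : NF} (φ : a ⟶ c) : L.Nm M c →ₛₗ[rg L.E φ] L.Nm M a :=
  BC.lift (σ := rg L.E φ) (τ := (rg L.E φ).comp (L.i c)) rfl
    { toFun := fun m => bc (L.i a) (M.map φ m)
      map_add' := fun m m' => by rw [map_add, map_add]
      map_smul' := fun r m => by
        rw [M.map_smul, LinearMap.map_smulₛₗ, L.i_nat_apply]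
        rfl }

@[simp] theorem rm_bc {a c : NF} (φ : a ⟶ c) (m : M.obj c) : L.rm M φ (bc (L.i c) m) = bc (L.i a) (M.map φ m) :=
  BC.lift_bc _ _ m

/-- `M ⊗ B → E⟨a⟩ ⊗ M` -/
def beta (a : NF) : M.obj a ⊗[k] B →+ L.Nm M a :=
  TensorProduct.liftAddHom
    { toFun := fun m =>
        { toFun := fun c => L.b a c • bc (L.i a) m
          map_zero' := by rw [map_zero, zero_smul]
          map_add' := fun c c' => by rw [map_add, add_smul] }
      map_zero' := by ext c; show L.b a c • bc (L.i a) (0 : M.obj a) = 0; rw [map_zero, smul_zero]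
      map_add' := fun m m' => by
        ext c
        show L.b a c • bc (L.i a) (m + m') = L.b a c • bc (L.i a) m + L.b a c • bc (L.i a) m'
        rw [map_add, smul_add] }
    (fun r m c => by
      show L.b a c • bc (L.i a) (r • m) = L.b a (r • c) • bc (L.i a) m
      rw [pmk_smul, LinearMap.map_smulₛₗ, Algebra.smul_def, map_mul, L.b_k, mul_smul, smul_smul, smul_smul, mul_comm])

@[simp] theorem beta_tmul (a : NF) (m : M.obj a) (c : B) : L.beta M a (m ⊗ₜ[k] c) = L.b a c • bc (L.i a) m := rfl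

theorem beta_rmul (a : NF) (c : B) (z : M.obj a ⊗[k] B) : L.beta M a (rmul (M.obj a) c z) = L.b a c • L.beta M a z := by
  induction z using TensorProduct.induction_on with
  | zero => rw [map_zero, map_zero, smul_zero]
  | add x y hx hy => rw [map_add, map_add, map_add, smul_add, hx, hy]
  | tmul m d => rw [rmul_tmul, beta_tmul, beta_tmul, smul_smul, ← map_mul, mul_comm d c]

theorem beta_mulk (a : NF) (r : A.obj (op a)) (z : M.obj a ⊗[k] B) :
    L.beta M a ((mulk (k := k) M a r).rTensor B z) = L.i a r • L.beta M a z := by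
  induction z using TensorProduct.induction_on with
  | zero => rw [map_zero, map_zero, smul_zero]
  | add x y hx hy => rw [map_add, map_add, map_add, smul_add, hx, hy]
  | tmul m d =>
    rw [LinearMap.rTensor_tmul, beta_tmul, beta_tmul]
    show L.b a d • bc (L.i a) (r • m) = L.i a r • L.b a d • bc (L.i a) m
    rw [LinearMap.map_smulₛₗ, smul_smul, smul_smul, mul_comm]

theorem beta_map {a c : NF} (φ : a ⟶ c) (z : M.obj c ⊗[k] B) :
    L.beta M a ((mapk (k := k) M φ).rTensor B z) = L.rm M φ (L.beta M c z) := by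
  induction z using TensorProduct.induction_on with
  | zero => simp only [map_zero]
  | add x y hx hy => rw [map_add, map_add, map_add, map_add, hx, hy]
  | tmul m d =>
    rw [LinearMap.rTensor_tmul, beta_tmul, beta_tmul, LinearMap.map_smulₛₗ, rm_bc, L.b_nat_apply]
    rfl

end PM

section Act

variable {M : PM.{u} A} {H : Gp k} (e : ECo H M)

theorem ev1_mulk (a : NF) (r : A.obj (op a)) (g : WithConv (H.O →ₐ[k] B)) (z : M.obj a ⊗[k] H.O) :
    ev1 g ((mulk (k := k) M a r).rTensor H.O z) = (mulk (k := k) M a r).rTensor B (ev1 g z) := by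
  induction z using TensorProduct.induction_on with
  | zero => simp only [map_zero]
  | add x y hx hy => simp only [map_add, hx, hy]
  | tmul m o => rfl

theorem ev1_mapk {a c : NF} (φ : a ⟶ c) (g : WithConv (H.O →ₐ[k] B)) (z : M.obj c ⊗[k] H.O) :
    ev1 g ((mapk (k := k) M φ).rTensor H.O z) = (mapk (k := k) M φ).rTensor B (ev1 g z) := by
  induction z using TensorProduct.induction_on with
  | zero => simp only [map_zero]
  | add x y hx hy => simp only [map_add, hx, hy]
  | tmul m o => rfl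

/-- the action of a point of `H` -/
def T (a : NF) (g : WithConv (H.O →ₐ[k] B)) : L.Nm M a →ₗ[L.E.obj (op a)] L.Nm M a :=
  BC.lift (σ := RingHom.id _) (τ := L.i a) (RingHom.id_comp _)
    { toFun := fun m => L.beta M a (ev1 g ((e.co a).coact m))
      map_add' := fun m m' => by rw [map_add, map_add, map_add]
      map_smul' := fun r m => by rw [e.lin, ev1_mulk, beta_mulk] }

@[simp] theorem T_bc (a : NF) (g : WithConv (H.O →ₐ[k] B)) (m : M.obj a) :
    L.T e a g (bc (L.i a) m) = L.beta M a (ev1 g ((e.co a).coact m)) :=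
  BC.lift_bc (RingHom.id_comp (L.i a)) _ m

theorem T_beta (a : NF) (g : WithConv (H.O →ₐ[k] B)) (z : M.obj a ⊗[k] B) :
    L.T e a g (L.beta M a z) = L.beta M a (actM (e.co a).coact g z) := by
  induction z using TensorProduct.induction_on with
  | zero => simp only [map_zero]
  | add x y hx hy => simp only [map_add, hx, hy]
  | tmul m d => rw [beta_tmul, map_smul, T_bc, actM_tmul', beta_rmul]

theorem bc_eq_beta (a : NF) (m : M.obj a) : bc (L.i a) m = L.beta M a (m ⊗ₜ[k] (1 : B)) := by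
  rw [beta_tmul, map_one, one_smul]

attribute [local instance] convGrp

theorem T_one (a : NF) (v : L.Nm M a) : L.T e a (1 : WithConv (H.O →ₐ[k] B)) v = v := by
  induction v using BC.ind with
  | h0 => rw [map_zero]
  | h1 r m => rw [map_smul, bc_eq_beta, T_beta, actM_one]
  | h2 x y hx hy => rw [map_add, hx, hy]

theorem T_mul (a : NF) (g h : WithConv (H.O →ₐ[k] B)) (v : L.Nm M a) :
    L.T e a (g * h) v = L.T e a g (L.T e a h v) := by
  induction v using BC.ind with
  | h0 => simp only [map_zero]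
  | h1 r m => rw [map_smul, map_smul, map_smul, bc_eq_beta, T_beta, T_beta, T_beta, actM_mul]
  | h2 x y hx hy => rw [map_add, map_add, map_add, hx, hy]

theorem rm_T {a c : NF} (φ : a ⟶ c) (g : WithConv (H.O →ₐ[k] B)) (v : L.Nm M c) :
    L.rm M φ (L.T e c g v) = L.T e a g (L.rm M φ v) := by
  induction v using BC.ind with
  | h0 => simp only [map_zero]
  | h1 r m =>
    rw [map_smul, LinearMap.map_smulₛₗ, LinearMap.map_smulₛₗ, map_smul, T_bc, rm_bc, T_bc, e.nat, ev1_mapk, beta_map]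
  | h2 x y hx hy => rw [map_add, map_add, map_add, map_add, hx, hy]

theorem lift_bijective {R R' M N : Type u} [CommRing R] [CommRing R'] [AddCommGroup M] [Module R M] [AddCommGroup N]
    [Module R' N] {x : R →+* R'} (φ : M →ₛₗ[x] N) (h : IsBC x φ.toAddMonoidHom) :
    Function.Bijective (BC.lift (RingHom.id_comp x) φ : BC x M →ₗ[R'] N) := by
  obtain ⟨f, hf⟩ := (isBC_bc (M := M) x).exists_equiv h
  have h1 : (BC.lift (RingHom.id_comp x) φ : BC x M →ₗ[R'] N) = f.toLinearMap :=
    BC.hom_ext fun m => (BC.lift_bc (RingHom.id_comp x) φ m).trans (hf m).symm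
  rw [h1]
  exact f.bijective

instance mdLv (M : PM.{u} A) (n : ℕ) : Module (L.lv.Rn n) (L.Nm M ⟨n⟩) :=
  inferInstanceAs (Module (L.E.obj (op ⟨n⟩)) (BC (L.i ⟨n⟩) (M.obj ⟨n⟩)))

/-- the map at a vertex -/
def sgv (L : LvB k A B) (M : PM.{u} A) (n : ℕ) (j : Fin (n + 1)) : M.obj ⟨0⟩ →ₛₗ[L.lv.x n j] L.Nm M ⟨n⟩ where
  toFun m := bc (L.i ⟨n⟩) (M.map (pt ⟨n⟩ j) m)
  map_add' m m' := by rw [map_add, map_add]
  map_smul' r m := by
    rw [M.map_smul, LinearMap.map_smulₛₗ, L.i_nat_apply]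
    rfl

/-- **a cartesian module with an `H`-coaction, realized at all levels** -/
def ofPM (hM : M.Cart) : LvMod L.lv ((pts H).pt B) (M.obj ⟨0⟩) where
  N n := L.Nm M ⟨n⟩
  md n := L.mdLv M n
  sg n j := L.sgv M n j
  sg_bij n j := by
    refine lift_bijective (x := L.lv.x n j) (L.sgv M n j) ?_
    have h1 := (hM (pt ⟨n⟩ j)).comp (isBC_bc (M := M.obj ⟨n⟩) (L.i ⟨n⟩))
    have h2 : (L.i ⟨n⟩).comp (rg A (pt ⟨n⟩ j)) = L.lv.x n j := L.i_nat _
    rw [h2] at h1
    exact h1
  ra {m n} a := L.rm M (show (⟨n⟩ : NF) ⟶ ⟨m⟩ from a)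
  ra_sg {m n} a j v := by
    show L.rm M (show (⟨n⟩ : NF) ⟶ ⟨m⟩ from a) (bc (L.i ⟨m⟩) (M.map (pt ⟨m⟩ j) v)) = bc (L.i ⟨n⟩) (M.map (pt ⟨n⟩ (a j)) v)
    rw [rm_bc, ← M.map_comp]
    rfl
  T n g := L.T e ⟨n⟩ g
  T_one n v := L.T_one e ⟨n⟩ v
  T_mul n h h' v := L.T_mul e ⟨n⟩ h' h v
  T_ra {m n} a h v := L.rm_T e (show (⟨n⟩ : NF) ⟶ ⟨m⟩ from a) h v

end Act

end LvB

end Groth.Agent.ResProp.EF.K884
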